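import Cfsg.Agent.Lib.Sporadic.Co2Mult.Words

/-!
# The data for `Co₂`
-/

set_option autoImplicit false

namespace Cfsg.Agent.Lib.Sporadic.Co2Mult

open MulAction Cfsg Cfsg.Agent.Lib.Sporadic.GolayCore Cfsg.Agent.Lib.Sporadic.LeechBasic
  Cfsg.Agent.Lib.Sporadic.LeechNorm Cfsg.Agent.Lib.Sporadic.LeechFacts
  Cfsg.Agent.Lib.Sporadic.LeechAut Cfsg.Agent.Lib.Sporadic.LeechMat
  Cfsg.Agent.Lib.Sporadic.LeechKey Cfsg.Agent.Lib.Sporadic.LeechEnum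
  Cfsg.Agent.Lib.Sporadic.LeechA0 Cfsg.Agent.Lib.Sporadic.LeechMcLData Cfsg.Agent.Lib.Sporadic.LeechMcL
  Cfsg.Agent.Lib.Sporadic.LeechShape Cfsg.Agent.Lib.Sporadic.LeechTree
  Cfsg.Agent.Lib.Sporadic.M24Chain Cfsg.Agent.Lib.Sporadic.Co3Mult

namespace D

def tT : List ℕ := [0,19,6,5,12,3,2,7,8,14,20,16,4,13,9,17,11,15,18,1,10,21,22,23]
def tI : List ℕ := [0,19,6,5,12,3,2,7,8,14,20,16,4,13,9,17,11,15,18,1,10,21,22,23]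
theorem tT_ok : okT tT = true := by decide +kernel
theorem tI_eq : invP tT = tI := by decide +kernel
def tf (l : List ℤ) : List ℤ := permL tI l
theorem tf_tf : ∀ i < 24, tf (tf (eiL i)) = eiL i := by decide +kernel
def ksAll : List (List (List (List ℕ))) := [[],[[]],[[],[[],[6,22,8,3,16,5,7,2,0,17,4,11,10,23,1,19,20,15,18,21,12,9,13,14],[0]]],[[],[[],[16,20,15,3,8,5,2,17,11,10,22,7,12,19,23,9,21,1,6,0,4,14,18,13],[0],[11,13,20,3,16,5,18,2,23,17,22,15,19,1,0,12,21,6,9,8,10,7,4,14]]],[[],[[],[6,22,8,3,16,5,7,2,0,17,4,11,10,23,1,19,20,15,18,21,12,9,13,14],[0]],[[13,7,18,3,1,5,22,8,20,2,15,4,12,14,16,6,19,11,10,23,17,0,9,21],[],[7,10,21,3,4,5,6,14,17,1,9,18,16,2,0,12,15,20,19,11,8,13,22,23],[]]],[[],[[],[16,20,15,3,8,5,2,17,11,10,22,7,12,19,23,9,21,1,6,0,4,14,18,13],[0],[11,13,20,3,16,5,18,2,23,17,22,15,19,1,0,12,21,6,9,8,10,7,4,14]],[[],[18,22,13,3,7,5,23,4,0,14,2,1,9,19,8,16,15,20,12,6,21,17,11,10],[]]]]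
def ksL (a : ℕ) : List (List (List ℕ)) := ksAll.getD a []
def yLit : List (List ℤ) := [[1,1,1,-3,1,1,1,1,1,1,1,1,1,1,1,1,1,1,1,1,1,1,1,1],[1,1,1,1,1,-3,1,1,1,1,1,1,1,1,1,1,1,1,1,1,1,1,1,1],[-2,0,0,0,2,-2,2,2,0,0,0,0,2,0,0,0,0,0,0,2,2,0,0,0],[1,1,-1,1,-1,-3,1,1,-1,-1,1,1,1,-1,-1,1,-1,1,1,-1,1,1,1,1],[-1,1,1,1,-1,-3,-1,-1,-1,-1,1,-1,-1,-1,1,1,-1,-1,1,-1,1,1,1,1],[-1,-1,1,1,-1,-3,1,-1,-1,-1,-1,-1,-1,1,-1,-1,-1,-1,-1,-1,-1,1,1,1]]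
def yA (a : ℕ) : List ℤ := yLit.getD a b0L
theorem chk_ks : (List.range 6).all (fun a => (ksL a).all okW && (wF tf (ksL a) b0L == yA a)) = true := by decide +kernel
theorem chk_y : yLit.all inLattice = true := by decide +kernel
def rootsLit : List (List ℤ) := [[-2,2,2,-2,2,0,0,2,0,0,2,0,2,0,0,0,0,0,0,0,0,0,0,0],[-2,-2,-2,-2,2,0,0,2,0,0,2,0,2,0,0,0,0,0,0,0,0,0,0,0],[-2,-2,-2,-2,-2,0,0,-2,0,0,2,0,2,0,0,0,0,0,0,0,0,0,0,0],[-2,-2,-2,-2,-2,0,0,-2,0,0,-2,0,-2,0,0,0,0,0,0,0,0,0,0,0],[-2,0,0,0,0,-2,0,2,2,0,2,2,2,2,0,0,0,0,0,0,0,0,0,0],[-2,0,0,0,0,-2,0,-2,-2,0,2,2,2,2,0,0,0,0,0,0,0,0,0,0],[-2,0,0,0,0,-2,0,-2,-2,0,-2,-2,2,2,0,0,0,0,0,0,0,0,0,0],[-2,0,0,0,0,-2,0,-2,-2,0,-2,-2,-2,-2,0,0,0,0,0,0,0,0,0,0],[-3,-1,-1,-1,-1,-1,1,1,-1,1,1,-1,1,-1,1,1,1,1,1,1,1,1,1,1],[-3,-1,1,-1,-1,-1,1,-1,-1,-1,-1,-1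,-1,1,-1,-1,1,1,1,1,1,1,1,1],[3,1,-1,-1,1,-1,1,1,1,-1,-1,1,1,-1,1,1,-1,1,1,1,1,1,1,1],[3,-1,-1,-1,1,-1,-1,1,-1,1,-1,-1,-1,1,-1,1,-1,1,1,1,1,1,1,1],[3,1,-1,-1,-1,-1,-1,-1,-1,-1,1,-1,-1,1,-1,-1,-1,-1,-1,1,1,1,1,1],[-3,-1,1,-1,-1,-1,-1,-1,-1,-1,-1,1,-1,-1,1,-1,-1,-1,-1,-1,1,1,1,1],[3,-1,-1,-1,-1,-1,-1,-1,-1,-1,-1,-1,-1,-1,-1,-1,-1,-1,-1,-1,-1,-1,-1,-1],[1,1,1,-3,1,1,1,1,1,1,1,1,1,1,1,1,1,1,1,1,1,1,1,1],[1,-1,1,-3,1,1,-1,1,-1,-1,1,-1,-1,-1,-1,1,1,1,1,1,1,1,1,1],[-1,-1,-1,-3,-1,1,1,-1,-1,1,1,-1,-1,-1,-1,-1,-1,1,1,1,1,1,1,1],[-1,-1,1,-3,-1,1,1,-1,-1,-1,-1,-1,-1,1,-1,-1,-1,-1,-1,-1,-1,1,1,1],[1,1,1,1,1,-3,1,1,1,1,1,1,1,1,1,1,1,1,1,1,1,1,1,1],[1,-1,1,1,1,-3,-1,1,-1,-1,1,-1,-1,-1,-1,1,1,1,1,1,1,1,1,1],[-1,-1,-1,1,-1,-3,1,-1,-1,1,1,-1,-1,-1,-1,-1,-1,1,1,1,1,1,1,1],[-1,-1,1,1,-1,-3,1,-1,-1,-1,-1,-1,-1,1,-1,-1,-1,-1,-1,-1,-1,1,1,1]]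
def rootF (τ : ℕ) : List ℤ := rootsLit.getD τ b0L
def wTLit : List (List (List ℕ)) := [[[],[6,22,8,3,16,5,7,2,0,17,4,11,10,23,1,19,20,15,18,21,12,9,13,14],[0]],[[13,7,18,3,1,5,22,8,20,2,15,4,12,14,16,6,19,11,10,23,17,0,9,21],[],[7,8,19,3,13,5,9,10,12,4,2,6,21,16,20,0,23,15,18,17,22,14,1,11]],[[],[17,22,11,3,16,5,13,10,23,7,9,8,18,0,21,2,4,1,19,12,15,14,6,20],[0]],[[0],[7,9,4,3,20,5,22,12,21,2,23,13,15,19,0,14,16,17,8,10,1,6,18,11],[0]],[[0,16,21,3,12,5,7,10,23,22,18,17,8,9,4,19,14,6,20,13,11,15,2,1]],[[13,7,18,3,1,5,22,8,20,2,15,4,12,14,16,6,19,11,10,23,17,0,9,21],[],[22,4,12,3,16,5,13,9,11,6,0,20,19,10,8,2,17,7,15,23,18,14,1,21]],[[],[10,23,18,3,1,5,9,12,19,13,20,21,17,8,6,0,22,14,7,2,11,4,15,16]],[[16,20,15,3,8,5,2,17,11,10,22,7,12,19,23,9,21,1,6,0,4,14,18,13],[0],[15,8,2,3,9,5,4,2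0,22,14,13,17,6,19,12,21,18,10,0,11,1,16,7,23]],[[23,11,22,3,17,5,10,4,1,6,2,20,12,21,0,18,13,8,9,14,7,19,15,16],[],[9,4,17,3,1,5,23,16,12,14,20,19,2,15,0,13,10,11,21,8,6,22,18,7]],[[],[8,12,2,3,13,5,19,22,17,18,0,20,14,7,15,1,6,10,9,21,11,16,4,23]],[[],[21,20,8,3,11,5,22,12,7,0,13,19,23,15,16,9,17,2,4,18,10,1,6,14]],[[0],[16,2,21,3,10,5,13,11,18,12,23,4,1,17,14,19,9,20,7,6,22,0,15,8]],[[9,7,2,3,0,5,11,20,18,12,14,8,19,6,21,13,4,1,23,22,10,17,16,15],[0],[12,14,0,3,6,5,4,18,13,21,19,20,1,11,16,22,2,15,23,8,10,9,17,7]],[[0],[16,0,20,3,2,5,13,23,15,7,6,4,12,22,17,21,9,19,1,11,14,10,8,18]],[[2,0,9,3,1,5,17,22,8,18,11,12,6,20,13,21,23,16,19,4,7,14,15,10],[0],[19,9,0,3,7,5,12,2,11,16,20,4,14,17,15,13,18,23,21,8,1,10,22,6]],[],[[],[16,20,15,3,8,5,2,17,11,10,22,7,12,19,23,9,21,1,6,0,4,14,18,1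3],[0],[11,13,20,3,16,5,18,2,23,17,22,15,19,1,0,12,21,6,9,8,10,7,4,14]],[[13,7,18,3,1,5,22,8,20,2,15,4,12,14,16,6,19,11,10,23,17,0,9,21],[],[7,10,21,3,4,5,6,14,17,1,9,18,16,2,0,12,15,20,19,11,8,13,22,23],[]],[[],[18,22,13,3,7,5,23,4,0,14,2,1,9,19,8,16,15,20,12,6,21,17,11,10],[]],[],[[7,16,1,3,9,5,20,18,14,12,23,19,0,11,8,2,6,10,4,13,15,22,21,17]],[[15,19,6,3,12,5,4,7,13,14,22,16,2,8,9,21,1,0,10,11,18,17,20,23]],[]]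
def atLit : List ℕ := [1,2,3,4,2,3,4,5,2,3,1,2,3,4,5,0,1,2,3,1,3,4,5]
/-- The check of the roots. -/
def rootOK (τ : ℕ) : Bool :=
  okW (wTLit.getD τ []) && Nat.blt (atLit.getD τ 0) 6 && (fW (wTLit.getD τ []) (yA (atLit.getD τ 0)) == rootF τ)
theorem chk_roots : (List.range 23).all rootOK = true := by decide +kernel
theorem chk_bd : rootsLit.all bdOK = true := by decide +kernel
def gensA : List (List (List ℕ × List (List ℕ) × List (List (List ℕ)))) := [[],[([7,2,1,3,4,5,19,0,13,17,10,11,12,8,15,14,16,9,22,6,20,23,18,21],[],[[]]),([4,2,17,3,12,5,6,23,20,0,11,13,22,7,10,1,9,18,8,16,15,14,19,21],[],[[]])],[([0,16,2,3,20,5,19,12,21,1,23,8,6,14,10,22,17,9,11,7,4,18,15,13],[],[[],[[],[6,22,8,3,16,5,7,2,0,17,4,11,10,23,1,19,20,15,18,21,12,9,13,14],[0]]]),([0,18,9,3,6,5,7,4,17,16,10,1,20,13,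22,15,2,21,11,12,19,8,23,14],[],[[],[[],[6,22,8,3,16,5,7,2,0,17,4,11,10,23,1,19,20,15,18,21,12,9,13,14],[0]]]),([0,8,17,3,7,5,6,12,10,14,23,16,19,1,21,11,2,15,22,20,4,18,9,13],[],[[],[[],[6,22,8,3,16,5,7,2,0,17,4,11,10,23,1,19,20,15,18,21,12,9,13,14],[0]]]),([0,1,15,3,6,5,4,20,22,13,17,14,7,8,10,23,21,11,2,12,19,16,9,18],[[],[12,17,7,3,15,5,1,11,23,9,10,22,21,18,2,0,19,13,6,8,16,4,14,20]],[[],[[],[6,22,8,3,16,5,7,2,0,17,4,11,10,23,1,19,20,15,18,21,12,9,13,14],[0]]]),([0,10,2,3,15,5,11,21,12,17,14,8,6,23,16,4,1,13,19,7,22,18,20,9],[[0],[16,2,21,3,10,5,13,11,18,12,23,4,1,17,14,19,9,20,7,6,22,0,15,8]],[[],[[],[14,8,10,3,7,5,9,20,17,18,6,1,12,16,19,22,23,4,15,21,11,13,2,0],[],[10,9,4,3,21,5,8,14,19,12,16,13,7,20,22,2,11,1,0,15,18,6,17,23]],[[],[14,8,10,3,7,5,9,20,17,18,6,1,12,16,19,22,23,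4,15,21,11,13,2,0],[],[12,19,15,3,10,5,18,20,21,11,13,16,0,22,1,8,9,4,6,14,2,7,23,17]]])],[([7,20,4,3,9,5,6,15,13,2,23,21,12,19,14,0,16,1,10,8,17,22,11,18],[],[[],[[],[16,20,15,3,8,5,2,17,11,10,22,7,12,19,23,9,21,1,6,0,4,14,18,13],[0],[11,13,20,3,16,5,18,2,23,17,22,15,19,1,0,12,21,6,9,8,10,7,4,14]]]),([17,15,8,3,16,5,6,20,4,19,22,18,12,9,13,7,2,0,23,14,1,11,10,21],[],[[],[[],[16,20,15,3,8,5,2,17,11,10,22,7,12,19,23,9,21,1,6,0,4,14,18,13],[0],[11,13,20,3,16,5,18,2,23,17,22,15,19,1,0,12,21,6,9,8,10,7,4,14]]]),([1,0,8,3,14,5,23,21,19,13,11,10,7,4,9,15,2,12,18,16,22,17,6,20],[],[[],[[],[16,20,15,3,8,5,2,17,11,10,22,7,12,19,23,9,21,1,6,0,4,14,18,13],[0],[11,13,20,3,16,5,18,2,23,17,22,15,19,1,0,12,21,6,9,8,10,7,4,14]]]),([0,8,22,3,15,5,13,7,1,12,10,14,9,6,11,4,17,16,19,18,20,21,2,23],[[],[8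,12,2,3,13,5,19,22,17,18,0,20,14,7,15,1,6,10,9,21,11,16,4,23]],[[],[[],[20,18,1,3,9,5,23,15,13,10,19,17,22,6,4,0,2,14,16,21,8,11,12,7]],[[],[16,20,15,3,8,5,2,17,11,10,22,7,12,19,23,9,21,1,6,0,4,14,18,13],[0],[6,13,14,3,12,5,19,17,21,22,15,10,23,1,20,4,8,0,7,18,2,16,9,11]]])],[([11,10,2,3,9,5,8,4,13,17,15,0,19,16,22,18,6,7,1,12,23,21,20,14],[],[[],[[],[16,20,15,3,8,5,2,17,11,10,22,7,12,19,23,9,21,1,6,0,4,14,18,13],[0],[1,14,13,3,11,5,19,22,0,17,18,20,23,6,10,4,9,21,7,15,2,16,8,12]],[[],[14,8,10,3,7,5,9,20,17,18,6,1,12,16,19,22,23,4,15,21,11,13,2,0],[],[2,10,18,3,7,5,14,15,19,1,16,9,20,12,4,0,22,21,13,23,6,11,8,17]]]),([7,20,14,3,11,5,19,17,6,9,23,0,16,13,1,10,8,4,21,12,22,15,2,18],[],[[],[[],[4,13,21,3,17,5,16,1,0,12,7,15,23,8,9,10,22,19,6,11,18,14,2,20],[0]],[[],[2,1,8,3,18,5,16,14,21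,15,10,19,9,23,4,6,12,13,20,17,7,22,0,11],[0]]]),([8,14,15,3,16,5,20,11,7,23,10,0,13,12,1,4,2,22,19,17,9,21,18,6],[[],[10,23,18,3,1,5,9,12,19,13,20,21,17,8,6,0,22,14,7,2,11,4,15,16]],[[],[[],[14,8,16,3,12,5,18,23,6,22,4,19,1,13,2,0,17,20,10,9,15,11,7,21],[],[10,7,16,3,4,5,13,9,2,22,21,23,14,19,17,20,15,1,0,18,11,6,12,8]],[[],[16,20,15,3,8,5,2,17,11,10,22,7,12,19,23,9,21,1,6,0,4,14,18,13],[0],[19,17,20,3,2,5,22,23,12,4,21,7,15,13,0,6,9,16,14,11,1,8,10,18]]])],[([19,10,21,3,1,5,6,17,14,4,9,12,0,13,16,18,20,15,7,11,8,2,23,22],[],[[],[[],[16,20,15,3,8,5,2,17,11,10,22,7,12,19,23,9,21,1,6,0,4,14,18,13],[0],[4,11,13,3,15,5,14,17,22,19,20,12,18,9,2,10,21,1,16,0,6,23,7,8]],[[],[16,20,15,3,8,5,2,17,11,10,22,7,12,19,23,9,21,1,6,0,4,14,18,13],[0],[18,8,6,3,17,5,12,15,20,22,19,23,10,4,0,1,11,7,21,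16,13,14,9,2]]]),([1,10,6,3,9,5,23,12,11,0,16,8,15,21,19,17,4,20,7,14,18,22,13,2],[],[[],[[],[16,20,15,3,8,5,2,17,11,10,22,7,12,19,23,9,21,1,6,0,4,14,18,13],[0],[12,20,9,3,7,5,2,4,6,21,23,22,15,16,1,19,17,8,14,11,18,13,10,0]],[[],[16,20,15,3,8,5,2,17,11,10,22,7,12,19,23,9,21,1,6,0,4,14,18,13],[0],[14,20,4,3,9,5,10,8,19,23,11,13,22,21,1,6,15,7,0,16,12,17,2,18]]]),([10,1,2,3,4,5,23,12,8,16,0,11,7,13,19,18,9,20,15,14,17,22,21,6],[],[[],[[],[16,20,15,3,8,5,2,17,11,10,22,7,12,19,23,9,21,1,6,0,4,14,18,13],[0],[10,4,14,3,17,5,2,11,22,23,6,13,1,16,0,15,18,19,7,12,9,21,20,8]],[[],[16,20,15,3,8,5,2,17,11,10,22,7,12,19,23,9,21,1,6,0,4,14,18,13],[0],[14,20,4,3,9,5,10,8,19,23,11,13,22,21,1,6,15,7,0,16,12,17,2,18]]]),([0,9,6,3,10,5,2,18,8,1,4,11,20,21,19,17,16,15,7,14,12,13,22,23],[[],[20,8,22,3,2,5,21,1,17,6,7,19,23,9,13,15,16,10,11,12,4,14,0,18]],[[],[[],[16,20,15,3,8,5,2,17,11,10,22,7,12,19,23,9,21,1,6,0,4,14,18,13],[0],[10,18,11,3,6,5,14,2,22,20,12,19,13,4,0,9,16,1,7,17,8,23,21,15]],[[],[16,20,15,3,8,5,2,17,11,10,22,7,12,19,23,9,21,1,6,0,4,14,18,13],[0],[2,8,7,3,10,5,12,13,17,9,21,16,19,1,18,14,15,0,20,4,22,23,11,6]]])]]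
def gensL (a : ℕ) : List (List ℕ × List (List ℕ) × List (List (List ℕ))) := gensA.getD a []
/-- The word of a generator. -/
def wOf (e : List ℕ × List (List ℕ) × List (List (List ℕ))) : List (List ℕ) := e.2.1 ++ [e.1] ++ invW e.2.1
/-- The check of a generator. -/
def genOK (a : ℕ) (e : List ℕ × List (List ℕ) × List (List (List ℕ))) : Bool :=
  okL e.1 && okW e.2.1 && e.2.1.all invOK && okW (wOf e) && chainChk tf [e.1] id e.2.2 && (e.2.2 != []) &&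
    (fW e.2.1 (yA a) == chainF tf id e.2.2 b0L) && (lF e.1 (fW e.2.1 (yA a)) == fW e.2.1 (yA a))
theorem chk_gens0 : (gensL 0).all (genOK 0) = true := by decide +kernel
theorem chk_gens1 : (gensL 1).all (genOK 1) = true := by decide +kernel
theorem chk_gens2 : (gensL 2).all (genOK 2) = true := by decide +kernel
theorem chk_gens3 : (gensL 3).all (genOK 3) = true := by decide +kernel
theorem chk_gens4 : (gensL 4).all (genOK 4) = true := by decide +kernel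
theorem chk_gens5 : (gensL 5).all (genOK 5) = true := by decide +kernel
theorem chk_gens : (List.range 6).all (fun a => (gensL a).all (genOK a)) = true := by
  simp only [List.range, List.range.loop, List.all_cons, List.all_nil, Bool.and_true, chk_gens0, chk_gens1, chk_gens2, chk_gens3, chk_gens4, chk_gens5]
def gensS : List (List (List ℕ)) := [[],[[35,10,5,15,20,25,95,0,65,85,50,55,60,40,75,70,80,45,110,30,100,115,90,105],[45,75,5,15,0,25,30,65,90,80,70,50,20,55,105,100,95,10,85,110,40,115,60,35]],[[0,45,10,15,100,25,60,95,55,85,70,90,35,115,65,110,5,80,105,30,20,40,75,50],[0,55,80,15,35,25,20,30,105,10,50,90,95,65,115,75,45,40,5,100,60,85,70,110],[0,65,80,15,100,25,30,20,5,110,40,75,35,115,45,85,55,10,105,60,95,70,90,50]],[[75,85,45,15,10,25,30,0,95,20,90,110,60,40,70,35,80,100,115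,65,5,55,105,50],[85,100,80,15,40,25,30,75,10,65,110,105,60,70,95,5,20,0,55,45,35,115,50,90],[5,0,80,15,65,25,110,60,10,70,55,50,85,45,20,75,95,105,90,40,115,35,100,30]],[[55,90,10,15,35,25,80,85,30,20,5,0,95,40,115,50,65,45,75,60,110,105,70,100],[55,70,110,15,85,25,40,0,80,45,75,20,95,65,10,105,60,35,115,30,5,90,100,50]],[[60,20,105,15,45,25,30,90,100,50,5,95,55,65,40,85,70,35,75,0,80,10,115,110],[45,0,115,15,80,25,10,90,55,20,5,40,35,110,95,60,50,75,100,70,85,65,105,30],[50,5,10,15,20,25,115,60,40,80,0,55,35,65,95,90,45,100,75,70,85,110,105,30]]]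
def wordsA : List (List (List (List ℕ))) := [[],[],[[[],[12,17,7,3,15,5,1,11,23,9,10,22,21,18,2,0,19,13,6,8,16,4,14,20],[0,1,15,3,6,5,4,20,22,13,17,14,7,8,10,23,21,11,2,12,19,16,9,18],[15,6,14,3,21,5,18,2,19,9,10,7,0,17,22,4,20,1,13,16,23,12,11,8],[0]],[[0],[16,2,21,3,10,5,13,11,18,12,23,4,1,17,14,19,9,20,7,6,22,0,15,8],[0,10,2,3,15,5,11,21,12,17,14,8,6,23,16,4,1,13,19,7,22,18,20,9],[21,12,1,3,11,5,19,18,23,16,4,7,9,6,14,22,0,13,8,15,17,2,20,10],[]]],[[[],[8,12,2,3,13,5,19,22,17,18,0,20,14,7,15,1,6,10,9,21,11,16,4,23],[0,8,22,3,15,5,13,7,1,12,10,14,9,6,11,4,17,16,19,18,20,21,2,23],[10,15,2,3,22,5,16,13,0,18,17,20,1,4,12,14,21,8,9,6,11,19,7,23],[0]]],[[[],[10,23,18,3,1,5,9,12,19,13,20,21,17,8,6,0,22,14,7,2,11,4,15,16],[8,14,15,3,16,5,20,11,7,23,10,0,13,12,1,4,2,22,19,17,9,21,18,6],[15,4,19,3,21,5,14,18,13,6,0,20,7,9,17,22,23,12,2,8,10,11,16,1],[0]]],[[[],[20,8,22,3,2,5,21,1,17,6,7,19,23,9,13,15,16,10,11,12,4,14,0,18],[0,9,6,3,10,5,2,18,8,1,4,11,20,21,19,17,16,15,7,14,12,13,22,23],[22,7,4,3,20,5,9,10,1,13,17,18,19,14,21,15,16,8,23,11,0,6,2,12],[0]]]]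
/-- The generators without a conjugating word. -/
def isP (e : List ℕ × List (List ℕ) × List (List (List ℕ))) : Bool := e.2.1.isEmpty
theorem chk_S : (List.range 6).all (fun a => (gensS.getD a [] == ((gensL a).filter isP).map (fun e => (invP e.1).map fun t => 5 * t)) &&
    (wordsA.getD a [] == ((gensL a).filter (fun e => !isP e)).map wOf) && ((gensL a).filter isP).all (fun e => e.1.length == 24)) = true := by decide +kernel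
/-- The generators on codes. -/
def gensF (a : ℕ) : List (ℕ → ℕ) := (gensS.getD a []).map (fun S c => permAux c S) ++ (wordsA.getD a []).map gW
def hTA : List (List (List ℕ)) := [[],[[0,1,8,3,4,5,6,18,2,23,22,13,17,11,20,19,16,12,7,15,14,21,10,9],[0,1,23,3,16,5,21,7,20,12,18,15,9,13,17,11,4,14,10,19,8,6,22,2],[0,1,22,3,14,5,23,16,8,12,10,15,20,6,19,18,17,7,11,4,9,2,21,13]],[[0,16,2,3,20,5,19,12,21,1,23,8,6,14,10,22,17,9,11,7,4,18,15,13],[0,18,9,3,6,5,7,4,17,16,10,1,20,13,22,15,2,21,11,12,19,8,23,14],[0,8,17,3,7,5,6,12,10,14,23,16,19,1,21,11,2,15,22,20,4,18,9,13]],[[7,20,4,3,9,5,6,15,13,2,23,21,12,19,14,0,16,1,10,8,17,22,11,18],[17,15,8,3,16,5,6,20,4,19,22,18,12,9,13,7,2,0,23,14,1,11,10,21],[1,0,8,3,14,5,23,21,19,13,11,10,7,4,9,15,2,12,18,16,22,17,6,20]],[[11,10,2,3,9,5,8,4,13,17,15,0,19,16,22,18,6,7,1,12,23,21,20,14],[7,20,14,3,11,5,19,17,6,9,23,0,16,13,1,10,8,4,21,12,22,15,2,18]],[[19,10,21,3,1,5,6,17,14,4,9,12,0,13,16,18,20,15,7,11,8,2,23,22],[1,10,6,3,9,5,23,12,11,0,16,8,15,21,19,17,4,20,7,14,18,22,13,2],[10,1,2,3,4,5,23,12,8,16,0,11,7,13,19,18,9,20,15,14,17,22,21,6]]]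
def hT (a : ℕ) : List (List ℕ) := hTA.getD a []
def hSA : List (List (List ℕ)) := [[],[[0,5,40,15,20,25,30,90,10,115,110,65,85,55,100,95,80,60,35,75,70,105,50,45],[0,5,115,15,80,25,105,35,100,60,90,75,45,65,85,55,20,70,50,95,40,30,110,10],[0,5,105,15,95,25,65,85,40,100,50,90,45,115,20,55,35,80,75,70,60,110,10,30]],[[0,45,10,15,100,25,60,95,55,85,70,90,35,115,65,110,5,80,105,30,20,40,75,50],[0,55,80,15,35,25,20,30,105,10,50,90,95,65,115,75,45,40,5,100,60,85,70,110],[0,65,80,15,100,25,30,20,5,110,40,75,35,115,45,85,55,10,105,60,95,70,90,50]],[[75,85,45,15,10,25,30,0,95,20,90,110,60,40,70,35,80,100,115,65,5,55,105,50],[85,100,80,15,40,25,30,75,10,65,110,105,60,70,95,5,20,0,55,45,35,115,50,90],[5,0,80,15,65,25,110,60,10,70,55,50,85,45,20,75,95,105,90,40,115,35,100,30]],[[55,90,10,15,35,25,80,85,30,20,5,0,95,40,115,50,65,45,75,60,110,105,70,100],[55,70,110,15,85,25,40,0,80,45,75,20,95,65,10,105,60,35,115,30,5,90,100,50]],[[60,20,105,15,45,25,30,90,100,50,5,95,55,65,40,85,70,35,75,0,80,10,115,110],[45,0,115,15,80,25,10,90,55,20,5,40,35,110,95,60,50,75,100,70,85,65,105,30],[50,5,10,15,20,25,115,60,40,80,0,55,35,65,95,90,45,100,75,70,85,110,105,30]]]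
/-- The generators of the small groups on codes. -/
def gensP (a : ℕ) : List (ℕ → ℕ) := (hSA.getD a []).map (fun S c => permAux c S)
theorem chk_hS : (List.range 6).all (fun a => (hSA.getD a [] == (hT a).map (fun T => (invP T).map fun t => 5 * t)) &&
    (hT a).all (fun T => okL T && T.length == 24)) = true := by decide +kernel
theorem chk_hT : [2,3,4,5].all (fun a => (hT a).all (fun T => (gensL a).any (fun e => e.1 == T && isP e))) = true := by decide +kernel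
def xLit : List (List ℤ) := [[],[1,5,-3,-3,-3,-3,-3,-3,-3,-3,-3,-3,-3,-3,-3,-3,-3,-3,-3,-3,-3,-3,-3,-3],[1,1,1,1,1,-3,1,1,1,1,1,1,1,1,1,1,1,1,1,1,1,1,1,1],[1,1,1,1,1,-3,1,1,1,1,1,1,1,1,1,1,1,1,1,1,1,1,1,1],[0,0,0,2,0,-6,2,0,2,0,0,0,2,2,0,0,2,0,0,2,0,0,0,0],[1,1,1,1,1,-3,1,1,1,1,1,1,1,1,1,1,1,1,1,1,1,1,1,1]]
def xL (a : ℕ) : List ℤ := xLit.getD a []
theorem chk_x : [1,2,3,4,5].all (fun a => inLattice (xL a) && bdOK (xL a) && (hT a).all (fun T => lF T (xL a) == xL a)) = true := by decide +kernel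
def vgL : List ℤ := [0,0,-2,0,-2,-2,0,0,0,4,0,2,0,0,-2,-4,0,-2,0,2,2,0,0,-4]
theorem vg_ok : inLattice vgL = true ∧ bdOK vgL = true := by decide +kernel
def xTab : List (List ℕ) := [[7,2,1,3,4,5,19,0,13,17,10,11,12,8,15,14,16,9,22,6,20,23,18,21],[7,2,1,3,4,5,19,0,13,17,10,11,12,8,15,14,16,9,22,6,20,23,18,21],[4,2,17,3,12,5,6,23,20,0,11,13,22,7,10,1,9,18,8,16,15,14,19,21],[9,15,1,3,0,5,6,13,18,16,14,10,4,11,21,20,19,2,17,22,8,23,12,7]]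
def xW (x : ℕ) : List ℕ := xTab.getD x []
def w1L : List ℕ := [2,0,2,0,2,2,0,3,0,3,3,0,2,2,2,2,1,3,1,2,1,3,1,3,3,1,3,3]
def w2L : List ℕ := [0,2,0,2,0,3,0,2,0,2,2,2,1,2,1,3,3,3,1,3,3,1,2,2,1,3,3,3]
def hWA : List (List ℕ) := [[2,0,2,2,0,2,0,2,2,0,2,2,2,0,3,3,3,1,3,3,1,3,1,3,3,1,3],[2,2,0,2,2,2,0,3,3,3,1,3,3],[2,0,2,2,0,2,0,2,2,0,2,2,2,2,1,3,3,1,3,3,3,3,3,3]]
theorem chk_xTab : xW 0 = (gensL 1).head!.1 ∧ invOK (xW 0) = true ∧ invOK (xW 2) = true ∧ invL (xW 0) = xW 1 ∧ invL (xW 2) = xW 3 ∧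
    (gensL 1).length = 2 := by decide +kernel
theorem chk_w1 : ∀ i < 24, fW (w1L.map xW) (eiL i) = fW [xW 0] (eiL i) := by decide +kernel
theorem chk_w2 : ∀ i < 24, fW (w2L.map xW) (eiL i) = fW [xW 2] (eiL i) := by decide +kernel
theorem chk_hW : (hT 1).length = hWA.length ∧ ∀ j < hWA.length, ∀ i < 24,
    fW ((hWA.getD j []).map xW) (eiL i) = fW [(hT 1).getD j []] (eiL i) := by decide +kernel
theorem chk_letters : (w1L ++ w2L ++ hWA.flatten).all (fun x => Nat.blt x 4) = true := by decide +kernel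
def treeL : List (ℕ × ℕ × List (List ℕ) × ℕ) := [(1,0,[],15),(2,1,[[],[6,22,8,3,16,5,7,2,0,17,4,11,10,23,1,19,20,15,18,21,12,9,13,14],[0]],0),(3,1,[[],[16,20,15,3,8,5,2,17,11,10,22,7,12,19,23,9,21,1,6,0,4,14,18,13],[0],[11,13,20,3,16,5,18,2,23,17,22,15,19,1,0,12,21,6,9,8,10,7,4,14]],16),(4,2,[[13,7,18,3,1,5,22,8,20,2,15,4,12,14,16,6,19,11,10,23,17,0,9,21],[],[7,10,21,3,4,5,6,14,17,1,9,18,16,2,0,12,15,20,19,11,8,13,22,23],[]],17),(5,3,[[],[18,22,13,3,7,5,23,4,0,14,2,1,9,19,8,16,15,20,12,6,21,17,11,10],[]],18)]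
/-- The check of the tree. -/
def treeOK1 (e : ℕ × ℕ × List (List ℕ) × ℕ) : Bool :=
  Nat.blt e.1 6 && Nat.blt e.2.1 6 && (ksL e.1 == ksL e.2.1 ++ [e.2.2.1]) && okW e.2.2.1 && Nat.blt e.2.2.2 23 &&
    (fW e.2.2.1 (yA e.2.1) == rootF e.2.2.2)
theorem chk_tree : treeL.all treeOK1 = true := by decide +kernel
def wStar : List (List ℕ) := [[],[21,20,8,3,11,5,22,12,7,0,13,19,23,15,16,9,17,2,4,18,10,1,6,14]]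
def h1Star : List (List ℕ) := [[],[9,15,10,3,21,5,7,18,19,0,13,22,23,16,20,11,2,14,12,4,6,1,8,17]]
theorem chk_star : okW wStar && okW h1Star && (fW wStar (yA 1) == rootF 10) && (tf (rootF 10) == fW h1Star (yA 1)) = true := by decide +kernel
def knownL : List ℕ := [15,0,16,17,18,10]
def ks2 : List (List (List ℕ)) := [[], []]
def k7 : List (List ℕ) := [[16,1,8,3,9,5,14,21,20,23,22,12,13,0,7,18,11,17,2,6,15,19,4,10],[]]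
def ks7 : List (List (List ℕ)) := List.replicate 7 k7
theorem chk_ks2 : ks2.all okW = true ∧ ks7.all okW = true := by decide +kernel
theorem chk_w2t : ∀ i < 24, wF tf ks2 (eiL i) = eiL i := by decide +kernel
theorem chk_w7 : ∀ i < 24, wF tf ks7 (eiL i) = eiL i := by decide +kernel
def t2Base : List ℤ × List (List ℕ × ℕ) := ([1,1,1,-3,1,1,1,1,1,1,1,1,1,1,1,1,1,1,1,1,1,1,1,1],[([0,1,2,3,4,5,6,7,8,9,10,11,12,13,14,15,16,17,18,19,20,21,22,23],15),([0,1,2,3,4,5,6,7,8,9,10,11,12,13,14,15,16,17,18,19,20,21,22,23],19)])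
def t2Inst : List (List ℤ × List (List ℕ × ℕ)) := [([-2,2,2,-2,2,0,0,2,0,0,2,0,2,0,0,0,0,0,0,0,0,0,0,0],[([0,1,2,3,4,5,6,7,8,9,10,11,12,13,14,15,16,17,18,19,20,21,22,23],0),([0,20,22,3,12,5,8,11,23,21,18,19,7,14,4,17,9,2,16,13,10,1,6,15],4)]),([-2,-2,-2,-2,2,0,0,2,0,0,2,0,2,0,0,0,0,0,0,0,0,0,0,0],[([0,1,2,3,4,5,6,7,8,9,10,11,12,13,14,15,16,17,18,19,20,21,22,23],1),([8,1,22,3,10,5,7,12,4,2,19,23,11,9,14,18,17,15,21,0,13,16,20,6],5)]),([-2,-2,-2,-2,-2,0,0,-2,0,0,2,0,2,0,0,0,0,0,0,0,0,0,0,0],[([0,1,2,3,4,5,6,7,8,9,10,11,12,13,14,15,16,17,18,19,20,21,22,23],2),([10,20,1,3,13,5,8,7,16,4,9,15,11,23,2,14,22,6,17,0,12,18,21,19],6)]),([-2,-2,-2,-2,-2,0,0,-2,0,0,-2,0,-2,0,0,0,0,0,0,0,0,0,0,0],[([0,1,2,3,4,5,6,7,8,9,10,11,12,13,14,15,16,17,18,19,20,21,22,23],3),([10,20,1,3,7,5,0,11,18,22,9,14,1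3,4,19,17,23,2,15,12,8,21,16,6],7)]),([-3,-1,-1,-1,-1,-1,1,1,-1,1,1,-1,1,-1,1,1,1,1,1,1,1,1,1,1],[([0,1,2,3,4,5,6,7,8,9,10,11,12,13,14,15,16,17,18,19,20,21,22,23],8),([0,10,20,3,19,5,4,15,2,9,12,6,13,1,21,17,8,23,22,11,16,14,18,7],8)]),([-3,-1,1,-1,-1,-1,1,-1,-1,-1,-1,-1,-1,1,-1,-1,1,1,1,1,1,1,1,1],[([0,1,2,3,4,5,6,7,8,9,10,11,12,13,14,15,16,17,18,19,20,21,22,23],9),([0,19,23,3,1,5,22,11,8,10,20,18,4,21,9,17,7,15,16,12,14,13,2,6],9)]),([3,1,-1,-1,1,-1,1,1,1,-1,-1,1,1,-1,1,1,-1,1,1,1,1,1,1,1],[([0,1,2,3,4,5,6,7,8,9,10,11,12,13,14,15,16,17,18,19,20,21,22,23],10),([0,14,18,3,23,5,2,8,6,11,15,16,20,10,9,12,1,22,7,19,13,17,4,21],10)]),([3,-1,-1,-1,1,-1,-1,1,-1,1,-1,-1,-1,1,-1,1,-1,1,1,1,1,1,1,1],[([0,1,2,3,4,5,6,7,8,9,10,11,12,13,14,15,16,17,18,19,20,21,22,23],11),([0,22,1,3,12,5,6,21,16,1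1,15,2,23,18,7,20,10,19,4,14,8,17,9,13],11)]),([3,1,-1,-1,-1,-1,-1,-1,-1,-1,1,-1,-1,1,-1,-1,-1,-1,-1,1,1,1,1,1],[([0,1,2,3,4,5,6,7,8,9,10,11,12,13,14,15,16,17,18,19,20,21,22,23],12),([0,1,2,3,4,5,6,7,8,9,10,11,12,13,14,15,16,17,18,19,20,21,22,23],12)]),([-3,-1,1,-1,-1,-1,-1,-1,-1,-1,-1,1,-1,-1,1,-1,-1,-1,-1,-1,1,1,1,1],[([0,1,2,3,4,5,6,7,8,9,10,11,12,13,14,15,16,17,18,19,20,21,22,23],13),([0,16,1,3,8,5,22,19,7,14,2,10,15,17,6,9,23,4,13,18,12,11,20,21],13)]),([3,-1,-1,-1,-1,-1,-1,-1,-1,-1,-1,-1,-1,-1,-1,-1,-1,-1,-1,-1,-1,-1,-1,-1],[([0,1,2,3,4,5,6,7,8,9,10,11,12,13,14,15,16,17,18,19,20,21,22,23],14),([0,1,2,3,4,5,6,7,8,9,10,11,12,13,14,15,16,17,18,19,20,21,22,23],14)]),([1,-1,1,-3,1,1,-1,1,-1,-1,1,-1,-1,-1,-1,1,1,1,1,1,1,1,1,1],[([0,1,2,3,4,5,6,7,8,9,10,11,12,13,14,15,16,17,18,19,20,21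,22,23],16),([2,18,14,3,11,5,20,16,8,6,4,17,0,12,13,10,9,15,21,1,7,23,22,19],20)]),([-1,-1,-1,-3,-1,1,1,-1,-1,1,1,-1,-1,-1,-1,-1,-1,1,1,1,1,1,1,1],[([0,1,2,3,4,5,6,7,8,9,10,11,12,13,14,15,16,17,18,19,20,21,22,23],17),([11,17,10,3,8,5,14,2,7,4,20,1,0,16,19,21,12,13,22,15,9,18,6,23],21)]),([-1,-1,1,-3,-1,1,1,-1,-1,-1,-1,-1,-1,1,-1,-1,-1,-1,-1,-1,-1,1,1,1],[([0,1,2,3,4,5,6,7,8,9,10,11,12,13,14,15,16,17,18,19,20,21,22,23],18),([0,1,2,3,4,5,6,7,8,9,10,11,12,13,14,15,16,17,18,19,20,21,22,23],22)])]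
def w7Base : List ℤ × List (List ℕ × ℕ) := ([-2,2,2,-2,2,0,0,2,0,0,2,0,2,0,0,0,0,0,0,0,0,0,0,0],[([17,7,2,3,11,5,4,18,10,8,19,14,1,22,13,6,9,12,21,23,16,0,15,20],0),([18,9,23,3,10,5,19,21,1,17,15,4,13,22,11,16,7,2,8,0,6,12,14,20],11),([13,1,22,3,23,5,16,14,4,8,18,9,11,10,0,6,20,7,17,12,2,15,21,19],1),([14,18,9,3,7,5,4,6,12,17,15,19,11,10,0,13,20,21,2,16,8,1,23,22],9),([1,0,20,3,15,5,11,17,22,19,6,4,7,2,8,16,10,12,21,14,13,18,23,9],5),([20,13,2,3,18,5,22,0,15,16,21,19,1,14,12,9,8,17,4,6,23,10,11,7],11),([0,20,22,3,12,5,8,11,23,21,18,19,7,14,4,17,9,2,16,13,10,1,6,15],4)])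
def w7Inst : List (List ℤ × List (List ℕ × ℕ)) := [([2,-2,2,-2,2,0,0,2,0,0,2,0,2,0,0,0,0,0,0,0,0,0,0,0],[([23,1,20,3,4,5,22,19,14,2,11,7,0,18,15,6,9,16,12,21,17,10,8,13],10),([19,2,12,3,14,5,13,16,6,1,17,9,10,4,21,22,15,11,8,7,20,18,23,0],0),([7,14,12,3,17,5,6,1,11,10,9,8,22,18,0,13,19,16,23,4,2,21,20,15],1),([18,7,8,3,4,5,14,11,12,19,23,22,10,21,0,15,1,6,17,13,9,20,16,2],9),([4,22,7,3,6,5,18,14,20,2,23,9,0,16,8,10,19,12,1,17,15,11,13,21],5),([23,17,10,3,7,5,22,9,1,14,6,8,2,16,11,20,18,13,4,12,0,15,21,19],11),([10,20,1,3,13,5,8,7,16,4,9,15,11,23,2,14,22,6,17,0,12,18,21,19],4)]),([2,2,-2,-2,2,0,0,2,0,0,2,0,2,0,0,0,0,0,0,0,0,0,0,0],[([14,8,10,3,7,5,9,20,17,18,6,1,12,16,19,22,23,4,15,21,11,13,2,0],0),([18,0,15,3,13,5,4,16,8,7,22,21,6,17,10,14,23,11,9,20,2,12,19,1],11),([7,2,19,3,21,5,15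,8,11,22,13,12,10,0,16,17,1,4,20,18,14,9,6,23],11),([9,8,1,3,22,5,19,16,14,7,21,6,13,15,0,10,2,20,11,18,23,17,4,12],1),([6,23,15,3,7,5,12,21,18,14,8,17,16,22,0,4,1,19,20,2,10,11,13,9],5),([0,18,10,3,14,5,21,7,23,12,17,16,13,6,1,19,22,15,20,2,4,9,8,11],11),([10,20,1,3,7,5,0,11,18,22,9,14,13,4,19,17,23,2,15,12,8,21,16,6],4)]),([-2,2,-2,-2,-2,0,0,2,0,0,2,0,2,0,0,0,0,0,0,0,0,0,0,0],[([2,23,4,3,12,5,10,17,18,20,22,13,11,0,16,6,15,7,21,1,9,8,14,19],1),([6,13,14,3,15,5,10,23,18,9,12,19,17,2,20,8,4,0,16,21,1,7,22,11],5),([10,6,13,3,14,5,18,22,20,2,9,11,19,0,15,21,16,7,8,17,1,23,12,4],11),([4,20,16,3,15,5,2,19,23,17,14,1,6,13,11,18,22,12,7,21,8,0,9,10],17),([15,10,12,3,7,5,4,17,19,22,11,18,21,9,8,0,13,23,1,20,16,6,14,2],6),([10,7,8,3,9,5,18,22,13,4,0,23,15,14,16,21,19,1,20,2,6,12,11,17],12),([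0,20,22,3,12,5,8,11,23,21,18,19,7,14,4,17,9,2,16,13,10,1,6,15],5)]),([-2,-2,2,-2,2,0,0,-2,0,0,2,0,2,0,0,0,0,0,0,0,0,0,0,0],[([9,0,18,3,16,5,13,1,17,11,23,19,7,20,21,15,2,14,6,12,4,10,8,22],11),([19,16,18,3,15,5,21,23,8,6,11,9,12,4,20,14,22,0,1,7,13,10,2,17],1),([18,19,22,3,23,5,1,2,12,9,0,20,10,14,4,17,21,11,16,13,7,8,15,6],2),([20,4,15,3,10,5,11,8,7,18,21,13,1,6,0,9,12,22,19,23,14,16,17,2],6),([23,12,8,3,19,5,14,7,13,4,17,16,0,6,10,21,20,2,9,11,18,22,1,15],9),([11,21,18,3,0,5,2,23,9,8,17,22,6,14,7,1,12,16,20,4,10,19,15,13],12),([7,6,17,3,13,5,10,8,1,23,22,9,11,18,19,20,15,14,16,0,12,4,2,21],5)]),([2,-2,2,-2,-2,0,0,-2,0,0,2,0,2,0,0,0,0,0,0,0,0,0,0,0],[([9,6,1,3,23,5,19,14,11,8,20,7,21,12,18,22,0,13,16,2,10,15,4,17],8),([8,21,11,3,7,5,4,1,13,17,14,16,0,18,9,20,12,10,2,23,15,22,19,6],11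),([12,10,4,3,1,5,14,2,9,18,0,22,7,23,20,17,13,16,6,8,19,21,15,11],1),([0,12,7,3,18,5,4,11,9,1,22,10,20,19,14,6,13,15,17,21,8,23,2,16],12),([22,14,10,3,18,5,0,12,6,1,4,16,15,23,11,13,9,2,17,19,8,21,20,7],9),([7,22,11,3,16,5,9,4,0,19,15,23,1,8,14,18,20,2,17,12,13,6,21,10],9),([13,21,19,3,10,5,12,8,16,18,2,22,7,15,9,23,14,20,6,0,11,1,17,4],5)]),([-2,-2,-2,-2,2,0,0,-2,0,0,-2,0,2,0,0,0,0,0,0,0,0,0,0,0],[([1,22,20,3,10,5,9,0,8,15,16,18,14,13,17,2,23,11,12,7,6,4,19,21],9),([23,20,18,3,22,5,19,21,8,6,16,13,4,10,11,15,14,2,1,0,17,12,7,9],2),([8,9,12,3,21,5,10,15,23,13,19,17,14,16,1,22,6,0,2,18,7,11,4,20],13),([7,2,21,3,8,5,0,10,20,17,19,16,13,14,15,4,6,1,23,11,12,18,22,9],6),([19,18,23,3,14,5,15,9,6,11,17,16,4,10,21,20,13,1,0,7,22,2,12,8],9),([19,18,21,3,12,5,7,17,6,4,13,15,22,20,8,2,9,1,14,1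6,11,10,0,23],2),([8,20,21,3,13,5,10,11,9,1,23,4,12,19,14,17,18,2,6,7,0,22,15,16],6)]),([2,2,-2,-2,-2,0,0,2,0,0,2,0,-2,0,0,0,0,0,0,0,0,0,0,0],[([16,2,22,3,4,5,19,10,15,11,8,20,6,0,18,14,23,12,21,9,17,7,13,1],1),([18,12,20,3,13,5,23,9,2,1,14,17,16,7,15,8,4,6,11,19,22,0,10,21],5),([20,17,12,3,6,5,8,9,0,16,11,22,19,10,13,21,4,7,1,14,18,23,15,2],4),([0,15,9,3,18,5,10,2,16,7,17,8,12,4,19,21,11,6,13,20,14,1,22,23],16),([14,15,23,3,8,5,6,18,10,17,0,12,20,2,4,7,1,11,16,19,9,22,13,21],9),([13,9,12,3,0,5,2,7,20,19,6,1,21,8,11,18,16,22,17,14,4,10,23,15],9),([10,4,2,3,0,5,8,12,15,6,1,22,7,20,18,9,19,17,23,11,13,14,16,21],5)]),([-2,-2,0,0,0,-2,-2,-2,0,2,2,0,0,0,-2,0,0,0,0,0,0,0,0,0],[([21,13,14,3,4,5,9,18,22,2,8,17,6,16,12,15,20,10,0,7,23,19,11,1],6),([6,2,14,3,21,5,13,0,20,1,15,16,10,8,12,17,22,4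,11,18,19,23,7,9],2),([16,14,4,3,15,5,0,6,21,2,19,11,20,23,22,9,7,17,1,10,8,12,18,13],13),([7,13,14,3,18,5,16,0,15,6,17,2,10,19,23,20,21,8,12,22,4,11,1,9],13),([21,13,7,3,9,5,4,12,8,17,6,23,0,14,11,2,19,16,22,10,15,20,1,18],3),([14,16,8,3,13,5,17,11,12,0,10,6,15,19,21,23,4,20,18,1,7,22,9,2],22),([2,20,7,3,11,5,23,4,19,1,21,8,6,15,12,14,9,13,16,0,10,18,22,17],2)]),([0,-2,-2,-2,0,0,-2,-2,0,0,0,0,0,-2,-2,0,-2,0,0,0,0,0,0,0],[([22,19,23,3,6,5,11,16,0,7,17,9,1,15,12,2,18,20,8,10,13,4,21,14],6),([16,13,9,3,12,5,19,14,11,7,20,15,18,22,10,23,6,0,1,4,21,8,17,2],2),([16,11,23,3,14,5,19,7,4,12,17,15,20,21,22,6,9,0,2,13,10,1,18,8],13),([7,18,22,3,12,5,19,0,1,14,11,16,20,2,23,21,10,15,13,6,4,9,8,17],13),([9,20,11,3,1,5,0,7,17,15,13,21,10,22,18,19,12,2,4,6,14,8,16,23],3),([17,7,2,3,11,5,4,18,10,8,19,14,1,22,13,6,9,12,21,23,16,0,15,20],14),([15,16,8,3,22,5,10,12,23,13,17,11,20,0,18,6,21,9,2,7,1,19,14,4],7)])]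
/-- The check of an instance. -/
def instOK (ks : List (List (List ℕ))) (p : List ℤ × List (List ℕ × ℕ)) : Bool :=
  inLattice p.1 && chkW tf rootF ks p.2 p.1 && (p.2.map Prod.snd).all (fun τ => Nat.blt τ 23)
theorem chk_t2 : (instOK ks2 t2Base && t2Inst.all (instOK ks2)) = true := by decide +kernel
theorem chk_w7i : (instOK ks7 w7Base && w7Inst.all (instOK ks7)) = true := by decide +kernel
/-- The rows of the walks. -/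
def rowOf (b p : List ℤ × List (List ℕ × ℕ)) : List ℤ := diffRow 23 (p.2.map Prod.snd) (b.2.map Prod.snd)
/-- All the rows. -/
def rowsAll : List (List ℤ) :=
  knownL.map (unitRow 23) ++ t2Inst.map (rowOf t2Base) ++ w7Inst.map (rowOf w7Base)
set_option maxHeartbeats 0 in
def rowsLit : List (List ℤ) := [[0,0,0,0,0,0,0,0,0,0,0,0,0,0,0,1,0,0,0,0,0,0,0],[1,0,0,0,0,0,0,0,0,0,0,0,0,0,0,0,0,0,0,0,0,0,0],[0,0,0,0,0,0,0,0,0,0,0,0,0,0,0,0,1,0,0,0,0,0,0],[0,0,0,0,0,0,0,0,0,0,0,0,0,0,0,0,0,1,0,0,0,0,0],[0,0,0,0,0,0,0,0,0,0,0,0,0,0,0,0,0,0,1,0,0,0,0],[0,0,0,0,0,0,0,0,0,0,1,0,0,0,0,0,0,0,0,0,0,0,0],[1,0,0,0,1,0,0,0,0,0,0,0,0,0,0,-1,0,0,0,-1,0,0,0],[0,1,0,0,0,1,0,0,0,0,0,0,0,0,0,-1,0,0,0,-1,0,0,0],[0,0,1,0,0,0,1,0,0,0,0,0,0,0,0,-1,0,0,0,-1,0,0,0],[0,0,0,1,0,0,0,1,0,0,0,0,0,0,0,-1,0,0,0,-1,0,0,0],[0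,0,0,0,0,0,0,0,2,0,0,0,0,0,0,-1,0,0,0,-1,0,0,0],[0,0,0,0,0,0,0,0,0,2,0,0,0,0,0,-1,0,0,0,-1,0,0,0],[0,0,0,0,0,0,0,0,0,0,2,0,0,0,0,-1,0,0,0,-1,0,0,0],[0,0,0,0,0,0,0,0,0,0,0,2,0,0,0,-1,0,0,0,-1,0,0,0],[0,0,0,0,0,0,0,0,0,0,0,0,2,0,0,-1,0,0,0,-1,0,0,0],[0,0,0,0,0,0,0,0,0,0,0,0,0,2,0,-1,0,0,0,-1,0,0,0],[0,0,0,0,0,0,0,0,0,0,0,0,0,0,2,-1,0,0,0,-1,0,0,0],[0,0,0,0,0,0,0,0,0,0,0,0,0,0,0,-1,1,0,0,-1,1,0,0],[0,0,0,0,0,0,0,0,0,0,0,0,0,0,0,-1,0,1,0,-1,0,1,0],[0,0,0,0,0,0,0,0,0,0,0,0,0,0,0,-1,0,0,1,-1,0,0,1],[0,0,0,0,0,0,0,0,0,0,1,-1,0,0,0,0,0,0,0,0,0,0,0],[0,0,0,0,0,0,0,0,0,-1,0,1,0,0,0,0,0,0,0,0,0,0,0],[-1,0,0,0,-1,1,1,0,0,-1,0,-1,1,0,0,0,0,1,0,0,0,0,0],[-1,0,1,0,-1,0,1,0,0,0,0,-1,1,0,0,0,0,0,0,0,0,0,0],[-1,0,0,0,-1,0,0,0,1,1,0,-1,1,0,0,0,0,0,0,0,0,0,0],[-1,-1,2,0,-1,-1,2,0,0,1,0,-2,0,1,0,0,0,0,0,0,0,0,0],[-1,0,0,0,0,1,0,0,0,1,0,-2,0,0,0,0,1,0,0,0,0,0,0],[-1,-1,2,1,-1,-1,1,0,0,-1,0,-2,0,2,0,0,0,0,0,0,0,0,1],[-1,-1,1,1,-1,-1,1,1,0,-1,0,-2,0,2,1,0,0,0,0,0,0,0,0]]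
theorem rows_eq : rowsAll = rowsLit := by decide +kernel
set_option maxHeartbeats 0 in
def cLit : List (List ℤ) := [[0,1,0,0,0,0,0,0,0,0,0,0,0,0,0,0,0,0,0,0,0,0,0,0,0,0,0,0,0],[0,-1,1,0,0,1,0,1,0,0,0,0,-1,0,0,0,0,0,0,0,1,-1,0,0,0,0,-1,0,0],[0,1,-1,1,0,0,0,0,0,0,0,0,0,0,0,0,0,0,0,0,0,2,-1,1,0,0,1,0,0],[0,-1,1,-1,1,1,-1,-1,3,0,0,0,0,0,0,0,0,0,0,-1,-1,-5,1,-1,0,-2,-1,1,0],[0,-1,0,0,0,2,1,0,0,0,0,0,-1,0,0,0,0,0,0,0,0,0,0,0,0,0,0,0,0],[0,1,-1,0,0,1,0,0,0,0,0,0,0,0,0,0,0,0,0,0,-1,1,0,0,0,0,1,0,0],[0,-1,1,-1,0,2,0,0,1,0,0,0,-1,0,0,0,0,0,0,0,0,-2,1,-1,0,0,-1,0,0],[0,1,-1,1,-1,1,1,1,-3,1,0,0,-1,0,0,0,0,0,0,1,1,5,-1,1,0,2,1,-1,0],[0,0,0,0,0,1,0,0,1,0,0,0,-1,0,0,0,0,0,0,0,1,1,0,-1,1,0,0,0,0],[0,0,0,0,0,1,0,0,0,0,0,0,0,0,0,0,0,0,0,0,-1,-1,0,0,0,0,0,0,0],[0,0,0,0,0,1,0,0,0,0,0,0,0,0,0,0,0,0,0,0,0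,0,0,0,0,0,0,0,0],[0,0,0,0,0,1,0,0,0,0,0,0,0,0,0,0,0,0,0,0,-1,0,0,0,0,0,0,0,0],[0,0,0,0,0,1,1,0,-1,0,0,0,0,0,0,0,0,0,0,0,-1,0,0,1,0,0,0,0,0],[0,0,0,0,0,1,1,1,-2,0,0,0,0,0,0,0,0,0,0,0,-1,1,0,0,0,1,0,0,0],[0,0,0,0,0,1,-1,-1,3,-1,0,0,0,0,0,0,0,0,0,0,-1,-3,0,0,0,-2,0,0,1],[1,0,0,0,0,0,0,0,0,0,0,0,0,0,0,0,0,0,0,0,0,0,0,0,0,0,0,0,0],[0,0,1,0,0,0,0,0,0,0,0,0,0,0,0,0,0,0,0,0,0,0,0,0,0,0,0,0,0],[0,0,0,1,0,0,0,0,0,0,0,0,0,0,0,0,0,0,0,0,0,0,0,0,0,0,0,0,0],[0,0,0,0,1,0,0,0,0,0,0,0,0,0,0,0,0,0,0,0,0,0,0,0,0,0,0,0,0],[-1,0,0,0,0,2,0,0,0,0,0,0,-1,0,0,0,0,0,0,0,0,0,0,0,0,0,0,0,0],[0,0,-1,0,0,2,0,0,0,0,0,0,-1,0,0,0,0,1,0,0,0,0,0,0,0,0,0,0,0],[0,0,0,-1,0,2,0,0,0,0,0,0,-1,0,0,0,0,0,1,0,0,0,0,0,0,0,0,0,0],[0,0,0,0,-1,2,0,0,0,0,0,0,-1,0,0,0,0,0,0,1,0,0,0,0,0,0,0,0,0]]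
theorem chk_comb : (List.range 23).all (fun j => (List.range 23).all fun i =>
    comb (cLit.getD j []) rowsLit i == if i = j then 1 else 0) = true := by decide +kernel
theorem chk_known2 : knownL.all (fun τ => Nat.blt τ 23) = true := by decide +kernel

end D

end Cfsg.Agent.Lib.Sporadic.Co2Mult
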