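import Cfsg.Agent.Lib.Sporadic.Co2Mult.Data
import Cfsg.Agent.Lib.Sporadic.Co2Mult.Cone2

/-!
# The Schur multiplier of `Co₂`
-/

set_option autoImplicit false

namespace Cfsg.Agent.Lib.Sporadic.Co2Mult

open MulAction Cfsg Cfsg.Agent.Lib.Sporadic.GolayCore Cfsg.Agent.Lib.Sporadic.LeechBasic
  Cfsg.Agent.Lib.Sporadic.LeechNorm Cfsg.Agent.Lib.Sporadic.LeechFacts
  Cfsg.Agent.Lib.Sporadic.LeechAut Cfsg.Agent.Lib.Sporadic.LeechMat
  Cfsg.Agent.Lib.Sporadic.LeechKey Cfsg.Agent.Lib.Sporadic.LeechEnum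
  Cfsg.Agent.Lib.Sporadic.LeechA0 Cfsg.Agent.Lib.Sporadic.LeechMcLData Cfsg.Agent.Lib.Sporadic.LeechMcL
  Cfsg.Agent.Lib.Sporadic.LeechShape Cfsg.Agent.Lib.Sporadic.LeechTree
  Cfsg.Agent.Lib.Sporadic.M24Chain Cfsg.Agent.Lib.Sporadic.Co3Mult
  Cfsg.Agent.Lib.Sporadic.LeechRep Cfsg.Agent.Lib.Sporadic.LeechGroups
  Cfsg.Agent.Lib.Compute.SchurLin Cfsg.Agent.Lib.Compute.ToddCoxeterCore

/-! ### The orders -/

theorem card_G2 : Nat.card G2 = 42305421312000 := card_stab_32 a0 sqNorm_a0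

instance : Finite ↥G2 := Nat.finite_of_card_ne_zero (by rw [card_G2]; norm_num)

theorem card_Kc : Nat.card Kc = 898128000 := by
  rw [Nat.card_congr eK.toEquiv]
  exact Cfsg.Agent.Lib.Sporadic.McLOut.Main.card_K

/-- The orbit has the right size. -/
theorem ncard_orbit : (orbit ↥G2 b0El).ncard = 47104 := by
  have h := card_inf_mul (G := ↥G2) (⊤ : Subgroup ↥G2) b0El
  have e1 : Nat.card ↥((⊤ : Subgroup ↥G2) ⊓ stabilizer ↥G2 b0El) = 898128000 := by
    rw [top_inf_eq]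
    exact card_Kc
  have e2 : Nat.card ↥(⊤ : Subgroup ↥G2) = 42305421312000 := by
    rw [Subgroup.card_top]
    exact card_G2
  have e3 : orbit ↥(⊤ : Subgroup ↥G2) b0El = orbit ↥G2 b0El := by
    ext y
    constructor
    · rintro ⟨g, rfl⟩
      exact ⟨g.1, rfl⟩
    · rintro ⟨g, rfl⟩
      exact ⟨⟨g, trivial⟩, rfl⟩
  rw [e1, e2, e3] at h
  omega

/-! ### The element `t` -/

/-- The element `t`. -/
noncomputable def tG : ↥G2 := pG D.tT

theorem tG_acts : Acts (tG : Co0) D.tf := by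
  have h := pG_acts D.tT_ok
  rw [D.tI_eq] at h
  exact h

theorem tG_inv : tG⁻¹ = tG := by
  apply inv_eq_of_mul_eq_one_left
  exact frame_eq (f := fun l => D.tf (D.tf l)) (f' := id) (tG_acts.comp tG_acts) one_acts D.tf_tf

/-! ### The words -/

/-- The representatives of the double cosets. -/
noncomputable def EE (a : ℕ) : ↥G2 := wG tG (gw (D.ksL a))

theorem ks_chk {a : ℕ} (ha : a < 6) : (D.ksL a).all okW = true ∧ wF D.tf (D.ksL a) b0L = D.yA a := by
  have h := List.all_eq_true.1 D.chk_ks a (List.mem_range.2 ha)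
  simpa only [Bool.and_eq_true, beq_iff_eq] using h

theorem EE_acts {a : ℕ} (ha : a < 6) : Acts (EE a : Co0) (wF D.tf (D.ksL a)) :=
  wG_acts tG_acts _ (ks_chk ha).1

theorem LV_y {a : ℕ} (ha : a < 6) : LV (D.yA a) := by
  have h := (EE_acts ha).mem LV_b0
  rwa [(ks_chk ha).2] at h

theorem EE_smul {a : ℕ} (ha : a < 6) : EE a • b0El = vl (D.yA a) := by
  have h := acts_vl (EE_acts ha) LV_b0
  rw [vl_b0, (ks_chk ha).2] at h
  exact h

theorem ks_mem {a : ℕ} (ha : a < 6) : ∀ k ∈ gw (D.ksL a), k ∈ Kc := by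
  intro k hk
  obtain ⟨w, hw, rfl⟩ := List.mem_map.1 hk
  exact kW_mem (List.all_eq_true.1 (ks_chk ha).1 w hw)

theorem EE0 : EE 0 = 1 := rfl

theorem EE1 : EE 1 = tG := by
  show 1 * tG * 1 = tG
  group

/-! ### The generators of the stabilisers -/

/-- A generator. -/
abbrev GE := List ℕ × List (List ℕ) × List (List (List ℕ))

/-- The element of a generator. -/
noncomputable def gE (e : GE) : ↥G2 := kW (D.wOf e)

/-- The subgroup of a double coset. -/
noncomputable def QQ (a : ℕ) : Subgroup ↥G2 :=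
  if a = 0 then Kc else Subgroup.closure (gE '' {e | e ∈ D.gensL a})

theorem genOK_of {a : ℕ} (ha : a < 6) {e : GE} (he : e ∈ D.gensL a) : D.genOK a e = true :=
  List.all_eq_true.1 (List.all_eq_true.1 D.chk_gens a (List.mem_range.2 ha)) e he

theorem genOK_parts {a : ℕ} {e : GE} (h : D.genOK a e = true) :
    okL e.1 = true ∧ okW e.2.1 = true ∧ e.2.1.all invOK = true ∧ okW (D.wOf e) = true ∧
      chainChk D.tf [e.1] id e.2.2 = true ∧ e.2.2 ≠ [] ∧
      fW e.2.1 (D.yA a) = chainF D.tf id e.2.2 b0L ∧ lF e.1 (fW e.2.1 (D.yA a)) = fW e.2.1 (D.yA a) := by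
  simp only [D.genOK, Bool.and_eq_true, beq_iff_eq, bne_iff_ne, ne_eq] at h
  obtain ⟨⟨⟨⟨⟨⟨⟨h1, h2⟩, h3⟩, h4⟩, h5⟩, h6⟩, h7⟩, h8⟩ := h
  exact ⟨h1, h2, h3, h4, h5, h6, h7, h8⟩

theorem gE_eq {a : ℕ} {e : GE} (h : D.genOK a e = true) : gE e = (kW e.2.1)⁻¹ * lG e.1 * kW e.2.1 :=
  okW_inv_elt (genOK_parts h).2.2.1

theorem gE_mem {a : ℕ} {e : GE} (h : D.genOK a e = true) : gE e ∈ Kc := kW_mem (genOK_parts h).2.2.2.1

theorem gE_fix {a : ℕ} (ha : a < 6) {e : GE} (h : D.genOK a e = true) : gE e • vl (D.yA a) = vl (D.yA a) := by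
  obtain ⟨h1, h2, -, -, -, -, -, h8⟩ := genOK_parts h
  rw [gE_eq h, mul_smul, mul_smul]
  have e1 : kW e.2.1 • vl (D.yA a) = vl (fW e.2.1 (D.yA a)) := acts_vl (kW_acts h2) (LV_y ha)
  have hL : LV (fW e.2.1 (D.yA a)) := (kW_acts h2).mem (LV_y ha)
  have e2 : lG e.1 • vl (fW e.2.1 (D.yA a)) = vl (lF e.1 (fW e.2.1 (D.yA a))) := acts_vl (lG_acts h1) hL
  rw [h8] at e2
  rw [e1, e2, ← e1, inv_smul_smul]

theorem QQ_le {a : ℕ} (ha : a < 6) : QQ a ≤ Kc ⊓ stabilizer ↥G2 (EE a • b0El) := by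
  unfold QQ
  split_ifs with h0
  · subst h0
    rw [EE0, one_smul, inf_idem]
  · rw [Subgroup.closure_le]
    rintro _ ⟨e, he, rfl⟩
    have h := genOK_of ha he
    refine ⟨gE_mem h, ?_⟩
    show gE e • (EE a • b0El) = EE a • b0El
    rw [EE_smul ha]
    exact gE_fix ha h

theorem QQ_le_Kc {a : ℕ} (ha : a < 6) : QQ a ≤ Kc := (QQ_le ha).trans inf_le_left

section Good

variable {Γ : Type*} [Group Γ] {σ : Γ →* ↥G2} (C : Sct σ b0El)

theorem gE_good (ht : ∀ w ∈ Kc, w • (tG • b0El) = tG • b0El → C.Gd tG w) {a : ℕ} (ha : a < 6) {e : GE}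
    (h : D.genOK a e = true) : C.Gd (EE a) (gE e) := by
  obtain ⟨h1, h2, -, -, h5, -, h7, -⟩ := genOK_parts h
  have hv : okW [e.1] = true := by
    simp [okW, h1]
  have h0 : C.Gd (1 : ↥G2) (kW [e.1]) := C.Gd_mem (one_mem _) (kW_mem hv)
  obtain ⟨g1, g2⟩ := chain_good C tG_acts ht hv e.2.2 1 id one_acts h0 h5
  have h3 := Gd_conj C (kW_mem h2) g1
  have e1 : kW [e.1] = lG e.1 := by simp [kW]
  rw [e1] at h3
  rw [gE_eq h]
  refine C.Gd_transport h3 ?_
  have e2 : chainG tG 1 e.2.2 • b0El = kW e.2.1 • EE a • b0El := by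
    have e3 := acts_vl g2 LV_b0
    rw [vl_b0] at e3
    have e4 : kW e.2.1 • vl (D.yA a) = vl (fW e.2.1 (D.yA a)) := acts_vl (kW_acts h2) (LV_y ha)
    rw [EE_smul ha, e4, h7]
    exact e3
  rw [mul_smul, e2, inv_smul_smul]

end Good

/-! ### The group `M₂₂` -/

theorem gensL1 : D.gensL 1 = [(D.xW 0, [], [[]]), (D.xW 2, [], [[]])] := by decide +kernel

theorem gE_table {a : ℕ} {e : GE} (h : e.2.1 = []) : gE e = lG e.1 := by
  have e1 : D.wOf e = [e.1] := by
    simp [D.wOf, h, invW]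
  rw [gE, e1]
  simp [kW]

theorem QQ1_eq : QQ 1 = Subgroup.closure ({lG (D.xW 0), lG (D.xW 2)} : Set ↥G2) := by
  unfold QQ
  rw [if_neg (by norm_num)]
  congr 1
  ext y
  simp only [Set.mem_image, Set.mem_setOf_eq, Set.mem_insert_iff, Set.mem_singleton_iff, gensL1, List.mem_cons,
    List.not_mem_nil, or_false]
  constructor
  · rintro ⟨e, rfl | rfl, rfl⟩
    · exact Or.inl (gE_table (a := 0) rfl)
    · exact Or.inr (gE_table (a := 0) rfl)
  · rintro (rfl | rfl)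
    · exact ⟨_, Or.inl rfl, gE_table (a := 0) rfl⟩
    · exact ⟨_, Or.inr rfl, gE_table (a := 0) rfl⟩

theorem x0_mem : lG (D.xW 0) ∈ QQ 1 := by
  rw [QQ1_eq]
  exact Subgroup.subset_closure (by simp)

theorem x2_mem : lG (D.xW 2) ∈ QQ 1 := by
  rw [QQ1_eq]
  exact Subgroup.subset_closure (by simp)

/-- The generators of the subgroup `M₂₂`. -/
noncomputable def gQ (j : ℕ) : ↥(QQ 1) :=
  if j = 0 then ⟨_, x0_mem⟩ else ⟨_, x2_mem⟩

theorem xinv0 : lG (D.xW 1) = (lG (D.xW 0))⁻¹ := by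
  rw [← D.chk_xTab.2.2.2.1]
  exact lG_inv D.chk_xTab.2.1

theorem xinv2 : lG (D.xW 3) = (lG (D.xW 2))⁻¹ := by
  rw [← D.chk_xTab.2.2.2.2.1]
  exact lG_inv D.chk_xTab.2.2.1

theorem ltr_gQ {x : ℕ} (hx : x < 4) : ((ltr gQ x : ↥(QQ 1)) : ↥G2) = lG (D.xW x) := by
  interval_cases x
  · simp [ltr, gQ]
  · simp [ltr, gQ, xinv0]
  · simp [ltr, gQ]
  · simp [ltr, gQ, xinv2]

theorem coe_wordEl_gQ : ∀ w : List ℕ, (∀ x ∈ w, x < 4) → ((wordEl (ltr gQ) w : ↥(QQ 1)) : ↥G2) = kW (w.map D.xW)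
  | [], _ => rfl
  | x :: u, h => by
    simp only [wordEl_cons, Subgroup.coe_mul, List.map_cons, kW]
    rw [coe_wordEl_gQ u (fun y hy => h y (by simp [hy])), ltr_gQ (h x (by simp))]

theorem letters_lt {x : ℕ} (h : x ∈ D.w1L ++ D.w2L ++ D.hWA.flatten) : x < 4 := by
  have := List.all_eq_true.1 D.chk_letters x h
  simpa using this

theorem xW_ok {x : ℕ} (hx : x < 4) : okL (D.xW x) = true := by
  interval_cases x <;> decide +kernel

theorem okW_map {w : List ℕ} (h : ∀ x ∈ w, x < 4) : okW (w.map D.xW) = true := by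
  simp only [okW, List.all_eq_true, List.mem_map]
  rintro _ ⟨x, hx, rfl⟩
  exact xW_ok (h x hx)

theorem kW_single (T : List ℕ) : kW [T] = lG T := by simp [kW]

theorem chk_exp : ∀ j < 2, ∀ k < 2, expV (([D.w1L, D.w2L] : List (List ℕ)).getD j []) k = 0 := by decide +kernel

/-- The subgroup is perfect. -/
theorem perf_QQ1 : commutator ↥(QQ 1) = ⊤ := by
  refine commutator_eq_top_of_words (n := 2) (g := gQ) (C := fun j => ([D.w1L, D.w2L] : List (List ℕ)).getD j []) ?_ ?_ ?_ chk_exp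
  · intro h
    have hle : QQ 1 ≤ (Subgroup.closure (gQ '' Set.Iio 2)).map (QQ 1).subtype := by
      intro x hx
      rw [QQ1_eq] at hx
      have hsub : ({lG (D.xW 0), lG (D.xW 2)} : Set ↥G2) ⊆
          ((Subgroup.closure (gQ '' Set.Iio 2)).map (QQ 1).subtype : Subgroup ↥G2) := by
        rintro x (rfl | rfl)
        · refine ⟨gQ 0, Subgroup.subset_closure ⟨0, by norm_num, rfl⟩, ?_⟩
          simp [gQ]
        · refine ⟨gQ 1, Subgroup.subset_closure ⟨1, by norm_num, rfl⟩, ?_⟩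
          simp [gQ]
      exact (Subgroup.closure_le _).2 hsub hx
    obtain ⟨y, hy, e⟩ := hle h.2
    have e2 : y = h := Subtype.ext e
    rw [← e2]
    exact hy
  · intro j hj
    have hl : ∀ x ∈ ([D.w1L, D.w2L] : List (List ℕ)).getD j [], x < 4 := by
      intro x hx
      apply letters_lt
      interval_cases j
      · simp only [List.mem_append]
        exact Or.inl (Or.inl hx)
      · simp only [List.mem_append]
        exact Or.inl (Or.inr hx)
    apply Subtype.ext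
    rw [coe_wordEl_gQ _ hl]
    interval_cases j
    · have h1 : kW (D.w1L.map D.xW) = kW [D.xW 0] :=
        frame_eq (kW_acts (okW_map hl)) (kW_acts (w := [D.xW 0]) (by simp [okW, xW_ok])) D.chk_w1
      show kW (D.w1L.map D.xW) = _
      rw [h1, kW_single]
      simp [gQ]
    · have h1 : kW (D.w2L.map D.xW) = kW [D.xW 2] :=
        frame_eq (kW_acts (okW_map hl)) (kW_acts (w := [D.xW 2]) (by simp [okW, xW_ok])) D.chk_w2
      show kW (D.w2L.map D.xW) = _
      rw [h1, kW_single]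
      simp [gQ]
  · intro j hj x hx
    have : x < 4 := by
      apply letters_lt
      interval_cases j
      · simp only [List.mem_append]
        exact Or.inl (Or.inl hx)
      · simp only [List.mem_append]
        exact Or.inl (Or.inr hx)
    omega

/-! ### The small subgroups -/

theorem QQ_of_table {a : ℕ} (ha1 : a ≠ 0) {e : GE} (he : e ∈ D.gensL a) (h : e.2.1 = []) : lG e.1 ∈ QQ a := by
  unfold QQ
  rw [if_neg ha1, ← gE_table (a := 0) h]
  exact Subgroup.subset_closure ⟨e, he, rfl⟩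

theorem hT1_mem {T : List ℕ} (hT : T ∈ D.hT 1) : lG T ∈ QQ 1 := by
  obtain ⟨j, hj, e⟩ := List.getElem_of_mem hT
  have e0 : (D.hT 1).getD j [] = T := by
    rw [List.getD_eq_getElem _ _ hj]
    exact e
  have hj' : j < D.hWA.length := by
    rw [← D.chk_hW.1]
    exact hj
  have hl : ∀ x ∈ D.hWA.getD j [], x < 4 := by
    intro x hx
    apply letters_lt
    simp only [List.mem_append, List.mem_flatten]
    refine Or.inr ⟨_, ?_, hx⟩
    rw [List.getD_eq_getElem _ _ hj']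
    exact List.getElem_mem hj'
  have hT' : okL T = true := by
    have h := List.all_eq_true.1 D.chk_hS 1 (List.mem_range.2 (by norm_num))
    simp only [Bool.and_eq_true, List.all_eq_true, beq_iff_eq] at h
    exact (h.2 T hT).1
  have h2 := D.chk_hW.2 j hj'
  rw [e0] at h2
  have h1 : kW ((D.hWA.getD j []).map D.xW) = kW [T] :=
    frame_eq (kW_acts (okW_map hl)) (kW_acts (w := [T]) (by simp [okW, hT'])) h2
  rw [← kW_single, ← h1, ← coe_wordEl_gQ _ hl]
  exact Subtype.coe_prop _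

theorem hT_mem {a : ℕ} (ha : a = 1 ∨ a = 2 ∨ a = 3 ∨ a = 4 ∨ a = 5) {T : List ℕ} (hT : T ∈ D.hT a) : lG T ∈ QQ a := by
  rcases ha with rfl | ha
  · exact hT1_mem hT
  · have ha2 : a ∈ [2, 3, 4, 5] := by
      rcases ha with rfl | rfl | rfl | rfl <;> simp
    have h := List.all_eq_true.1 (List.all_eq_true.1 D.chk_hT a ha2) T hT
    simp only [List.any_eq_true, Bool.and_eq_true, beq_iff_eq] at h
    obtain ⟨e, he, rfl, hp⟩ := h
    have hp' : e.2.1 = [] := by simpa [D.isP] using hp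
    exact QQ_of_table (by rcases ha with rfl | rfl | rfl | rfl <;> norm_num) he hp'

/-- The subgroup of `Co0` of a double coset. -/
noncomputable def AA (a : ℕ) : Subgroup Co0 := (QQ a).map G2.subtype

/-- The small subgroup of a double coset. -/
noncomputable def HH (a : ℕ) : Subgroup Co0 := Subgroup.closure {g | ∃ T ∈ D.hT a, g = ((lG T : ↥G2) : Co0)}

theorem card_AA (a : ℕ) : Nat.card (AA a) = Nat.card (QQ a) :=
  Nat.card_congr ((QQ a).equivMapOfInjective _ (Subgroup.subtype_injective _)).symm.toEquiv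

theorem chkS_parts {a : ℕ} (ha : a < 6) :
    D.gensS.getD a [] = ((D.gensL a).filter D.isP).map (fun e => (invP e.1).map fun t => 5 * t) ∧
    D.wordsA.getD a [] = ((D.gensL a).filter (fun e => !D.isP e)).map D.wOf ∧
    ∀ e ∈ (D.gensL a).filter D.isP, e.1.length = 24 := by
  have h := List.all_eq_true.1 D.chk_S a (List.mem_range.2 ha)
  simp only [Bool.and_eq_true, beq_iff_eq, List.all_eq_true] at h
  exact ⟨h.1.1, h.1.2, h.2⟩

theorem gensF_genP {a : ℕ} (ha0 : a ≠ 0) (ha : a < 6) : ∀ f ∈ D.gensF a, GenP (AA a) f := by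
  obtain ⟨h1, h2, h3⟩ := chkS_parts ha
  intro f hf
  simp only [D.gensF, List.mem_append, List.mem_map] at hf
  rcases hf with ⟨S, hS, rfl⟩ | ⟨w, hw, rfl⟩
  · rw [h1] at hS
    obtain ⟨e, he, rfl⟩ := List.mem_map.1 hS
    have he1 := (List.mem_filter.1 he).1
    have he2 := (List.mem_filter.1 he).2
    have hp : e.2.1 = [] := by simpa [D.isP] using he2
    exact genP_table (genOK_parts (genOK_of ha he1)).1 (h3 e he) ⟨_, QQ_of_table ha0 he1 hp, rfl⟩
  · rw [h2] at hw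
    obtain ⟨e, he, rfl⟩ := List.mem_map.1 hw
    have he1 := (List.mem_filter.1 he).1
    have hok := (genOK_parts (genOK_of ha he1)).2.2.2.1
    have hm : gE e ∈ QQ a := by
      unfold QQ
      rw [if_neg ha0]
      exact Subgroup.subset_closure ⟨e, he1, rfl⟩
    exact genP_word (f := fW (D.wOf e)) (kW_acts hok) ⟨_, hm, rfl⟩

theorem hT_parts {a : ℕ} (ha : a < 6) : D.hSA.getD a [] = (D.hT a).map (fun T => (invP T).map fun t => 5 * t) ∧
    ∀ T ∈ D.hT a, okL T = true ∧ T.length = 24 := by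
  have h := List.all_eq_true.1 D.chk_hS a (List.mem_range.2 ha)
  simp only [Bool.and_eq_true, beq_iff_eq, List.all_eq_true] at h
  exact h

theorem gensP_genP {a : ℕ} (ha : a < 6) : ∀ f ∈ D.gensP a, GenP (HH a) f := by
  obtain ⟨h1, h2⟩ := hT_parts ha
  intro f hf
  simp only [D.gensP, List.mem_map] at hf
  obtain ⟨S, hS, rfl⟩ := hf
  rw [h1] at hS
  obtain ⟨T, hT, rfl⟩ := List.mem_map.1 hS
  exact genP_table (h2 T hT).1 (h2 T hT).2 (Subgroup.subset_closure ⟨T, hT, rfl⟩)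

theorem code_of {l : List ℤ} (hl : inLattice l = true) (hb : bdOK l = true) :
    vecN (encL l) = vecOf l ∧ vecN (encL l) ∈ leechLattice ∧ encL l < 32 ^ 24 := by
  simp only [bdOK, Bool.and_eq_true, beq_iff_eq, List.all_eq_true, List.mem_range, decide_eq_true_eq] at hb
  obtain ⟨hlen, hr⟩ := hb
  have e := vecN_encL hlen (fun i hi => hr i hi)
  refine ⟨e, ?_, ?_⟩
  · rw [e]
    exact inLattice_sound hl
  · have := encL_lt l
    rwa [hlen] at this

theorem hm_gen {a : ℕ} (ha : a = 1 ∨ a = 2 ∨ a = 3 ∨ a = 4 ∨ a = 5) (fuel : ℕ) (cs : List ℕ) (c : ℕ)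
    (hrun : runK (D.gensF a) fuel cs c [encL (D.xL a)] (treeOf [encL (D.xL a)]) = true)
    (fuel2 : ℕ) (cs2 : List ℕ) (c2 : ℕ)
    (hrun2 : runK (D.gensP a) fuel2 cs2 c2 [encL D.vgL] (treeOf [encL D.vgL]) = true) :
    (fuel + 1) * (fuel2 + 1) ≤ Nat.card (QQ a) := by
  have ha0 : a ≠ 0 := by rcases ha with rfl | rfl | rfl | rfl | rfl <;> norm_num
  have ha6 : a < 6 := by rcases ha with rfl | rfl | rfl | rfl | rfl <;> norm_num
  have hx := List.all_eq_true.1 D.chk_x a (by rcases ha with rfl | rfl | rfl | rfl | rfl <;> simp)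
  simp only [Bool.and_eq_true, List.all_eq_true, beq_iff_eq] at hx
  obtain ⟨⟨hx1, hx2⟩, hx3⟩ := hx
  obtain ⟨e1, e2, e3⟩ := code_of hx1 hx2
  obtain ⟨f1, f2, f3⟩ := code_of D.vg_ok.1 D.vg_ok.2
  rw [← card_AA]
  have hH : HH a ≤ AA a := by
    rw [HH, Subgroup.closure_le]
    rintro _ ⟨T, hT, rfl⟩
    exact ⟨_, hT_mem ha hT, rfl⟩
  refine card_two (gensF_genP ha0 ha6) hH (gensP_genP ha6) _ e2 e3 ?_ fuel cs c hrun _ f2 f3 fuel2 cs2 c2 hrun2
  have hl : LV (D.xL a) := inLattice_sound hx1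
  have e4 : (⟨vecN (encL (D.xL a)), e2⟩ : leechLattice) = ⟨vecOf (D.xL a), hl⟩ := Subtype.ext e1
  rw [e4]
  have hle : HH a ≤ stabilizer Co0 (⟨vecOf (D.xL a), hl⟩ : leechLattice) := by
    rw [HH, Subgroup.closure_le]
    rintro _ ⟨T, hT, rfl⟩
    exact fix_of (lG_acts ((hT_parts ha6).2 T hT).1) hl (hx3 T hT)
  exact fun h hh => hle hh

end Cfsg.Agent.Lib.Sporadic.Co2Mult
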