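import Cfsg.Agent.Lib.Sporadic.Co2Mult.Part1
import Cfsg.Agent.Lib.Sporadic.Co2Mult.DataBig

/-!
# The Schur multiplier of `Co₂`: the end of the proof
-/

set_option autoImplicit false

namespace Cfsg.Agent.Lib.Sporadic.Co2Mult

open MulAction Cfsg Cfsg.Agent.Lib.Sporadic.GolayCore Cfsg.Agent.Lib.Sporadic.LeechBasic
  Cfsg.Agent.Lib.Sporadic.LeechNorm Cfsg.Agent.Lib.Sporadic.LeechFacts
  Cfsg.Agent.Lib.Sporadic.LeechAut Cfsg.Agent.Lib.Sporadic.LeechMat
  Cfsg.Agent.Lib.Sporadic.LeechKey Cfsg.Agent.Lib.Sporadic.LeechEnum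
  Cfsg.Agent.Lib.Sporadic.LeechA0 Cfsg.Agent.Lib.Sporadic.LeechMcLData Cfsg.Agent.Lib.Sporadic.LeechMcL
  Cfsg.Agent.Lib.Sporadic.LeechShape Cfsg.Agent.Lib.Sporadic.LeechTree
  Cfsg.Agent.Lib.Sporadic.M24Chain Cfsg.Agent.Lib.Sporadic.Co3Mult
  Cfsg.Agent.Lib.Sporadic.LeechRep Cfsg.Agent.Lib.Sporadic.LeechGroups
  Cfsg.Agent.Lib.Compute.SchurLin Cfsg.Agent.Lib.Compute.ToddCoxeterCore

/-! ### The roots -/

theorem root_chk {τ : ℕ} (hτ : τ < 23) : okW (D.wTLit.getD τ []) = true ∧ D.atLit.getD τ 0 < 6 ∧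
    fW (D.wTLit.getD τ []) (D.yA (D.atLit.getD τ 0)) = D.rootF τ := by
  have h := List.all_eq_true.1 D.chk_roots τ (List.mem_range.2 hτ)
  simp only [D.rootOK, Bool.and_eq_true, beq_iff_eq, Nat.blt_eq] at h
  exact ⟨h.1.1, h.1.2, h.2⟩

theorem root_LV {τ : ℕ} (hτ : τ < 23) : LV (D.rootF τ) := by
  obtain ⟨h1, h2, h3⟩ := root_chk hτ
  have h := (kW_acts h1).mem (LV_y h2)
  rwa [h3] at h

theorem root_smul {τ : ℕ} (hτ : τ < 23) :
    vl (D.rootF τ) = kW (D.wTLit.getD τ []) • (EE (D.atLit.getD τ 0) • b0El) := by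
  obtain ⟨h1, h2, h3⟩ := root_chk hτ
  have e : kW (D.wTLit.getD τ []) • vl (D.yA (D.atLit.getD τ 0)) = vl (fW (D.wTLit.getD τ []) (D.yA (D.atLit.getD τ 0))) :=
    acts_vl (kW_acts h1) (LV_y h2)
  rw [EE_smul h2, e, h3]

theorem rootsLit_len : D.rootsLit.length = 23 := by decide +kernel

theorem root_orbit (τ : ℕ) : vl (D.rootF τ) ∈ orbit ↥G2 b0El := by
  by_cases hτ : τ < 23
  · refine ⟨kW (D.wTLit.getD τ []) * EE (D.atLit.getD τ 0), ?_⟩
    show (_ * _) • b0El = _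
    rw [mul_smul, ← root_smul hτ]
  · have e : D.rootF τ = b0L := by
      unfold D.rootF
      rw [List.getD_eq_default _ _ (by rw [rootsLit_len]; omega)]
    rw [e, vl_b0]
    exact ⟨1, one_smul _ _⟩

theorem root_code {τ : ℕ} (hτ : τ < 23) : vecN (encL (D.rootF τ)) = vecOf (D.rootF τ) ∧ encL (D.rootF τ) < 32 ^ 24 := by
  have hm : D.rootF τ ∈ D.rootsLit := by
    unfold D.rootF
    rw [List.getD_eq_getElem _ _ (by rw [rootsLit_len]; exact hτ)]
    exact List.getElem_mem _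
  have h1 := List.all_eq_true.1 D.chk_bd _ hm
  simp only [bdOK, Bool.and_eq_true, beq_iff_eq, List.all_eq_true, List.mem_range, decide_eq_true_eq] at h1
  obtain ⟨hlen, hr⟩ := h1
  refine ⟨vecN_encL hlen (fun i hi => hr i hi), ?_⟩
  have := encL_lt (D.rootF τ)
  rwa [hlen] at this

theorem root_idx {l : ℕ} (hl : l ∈ D.rootLit) : ∃ τ < 23, l = encL (D.rootF τ) := by
  rw [← D.rootCodes_eq] at hl
  obtain ⟨v, hv, rfl⟩ := List.mem_map.1 hl
  obtain ⟨j, hj, rfl⟩ := List.getElem_of_mem hv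
  refine ⟨j, by rwa [rootsLit_len] at hj, ?_⟩
  unfold D.rootF
  rw [List.getD_eq_getElem _ _ hj]

theorem root_nd : D.rootLit.Nodup := by decide +kernel

/-- The number of vectors of a list of codes. -/
theorem ncard_list {F : List ℕ} (hnd : F.Nodup) (hF : ∀ l ∈ F, vecN l ∈ leechLattice ∧ l < 32 ^ 24) :
    {z : leechLattice | z.1 ∈ F.map vecN}.ncard = F.length := by
  classical
  have hnd2 : (F.map vecN).Nodup := by
    refine List.Nodup.map_on ?_ hnd
    intro a ha b hb' e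
    exact vecN_inj (hF a ha).2 (hF b hb').2 e
  have hsurj : ∀ v ∈ (F.map vecN), v ∈ leechLattice := by
    intro v hv
    obtain ⟨l, hl, rfl⟩ := List.mem_map.1 hv
    exact (hF l hl).1
  let S : Finset leechLattice := (F.map vecN).attach.toFinset.image fun v => ⟨v.1, hsurj v.1 v.2⟩
  have hS : S.card = F.length := by
    rw [Finset.card_image_of_injective]
    · rw [List.toFinset_card_of_nodup (List.nodup_attach.2 hnd2), List.length_attach, List.length_map]
    · intro a b e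
      have e' := congrArg (fun z : leechLattice => (z : GolayPt → ℤ)) e
      exact Subtype.ext e'
  have e : {z : leechLattice | z.1 ∈ F.map vecN} = (S : Set leechLattice) := by
    ext z
    simp only [Set.mem_setOf_eq, Finset.mem_coe]
    constructor
    · intro hz
      exact Finset.mem_image.2 ⟨⟨z.1, hz⟩, List.mem_toFinset.2 (List.mem_attach _ _), Subtype.ext rfl⟩
    · intro hz
      obtain ⟨v, -, rfl⟩ := Finset.mem_image.1 hz
      exact v.2
  rw [e, Set.ncard_coe_finset, hS]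

theorem orbit_fin : (orbit ↥G2 b0El).Finite := Set.finite_range _

/-- The generators fix the coordinate. -/
theorem gen_coord {T : List ℕ} (hT : okL T = true) (hlen : T.length = 24) (h3 : (invP T).getD 3 0 = 3) (v : leechLattice) :
    (((lG T : ↥G2) : Co0) • v).1 (pt 3) = v.1 (pt 3) := by
  set l : List ℤ := rangeL (fun i => v.1 (pt i)) with hl
  have e : vecOf l = v.1 := by
    funext p
    rw [hl, vecOf_rangeL, pt_idx]
  have hv : vecOf l ∈ leechLattice := by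
    rw [e]
    exact v.2
  have e2 : (⟨vecOf l, hv⟩ : leechLattice) = v := Subtype.ext e
  have h1 := lG_acts hT l hv
  rw [e2, lF_table hlen] at h1
  rw [h1, ← e]
  unfold permL
  rw [vecOf_rangeL, idx_pt (by norm_num), h3]
  unfold vecOf
  rw [idx_pt (by norm_num)]

theorem AA1_coord {g : Co0} (hg : g ∈ AA 1) (v : leechLattice) : (g • v).1 (pt 3) = v.1 (pt 3) := by
  obtain ⟨u, hu, rfl⟩ := hg
  rw [SetLike.mem_coe, QQ1_eq] at hu
  induction hu using Subgroup.closure_induction generalizing v with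
  | mem x hx =>
    rcases hx with rfl | rfl
    · exact gen_coord (xW_ok (by norm_num)) (by decide +kernel) (by decide +kernel) v
    · exact gen_coord (xW_ok (by norm_num)) (by decide +kernel) (by decide +kernel) v
  | one => rfl
  | mul x y _ _ ihx ihy =>
    have e : (G2.subtype (x * y)) • v = (G2.subtype x) • ((G2.subtype y) • v) := by
      rw [map_mul, mul_smul]
    rw [e, ihx, ihy]
  | inv x _ ih =>
    have h1 := ih ((G2.subtype x⁻¹) • v)
    have e : (G2.subtype x) • ((G2.subtype x⁻¹) • v) = v := by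
      rw [← mul_smul, ← map_mul, mul_inv_cancel, map_one, one_smul]
    rw [e] at h1
    exact h1.symm

theorem same_coord {x y : GolayPt → ℤ} (h : SameIn (AA 1) x y) : y (pt 3) = x (pt 3) := by
  obtain ⟨hx, hy, g, hg, e⟩ := h
  have h1 := AA1_coord hg ⟨x, hx⟩
  rw [e] at h1
  exact h1

theorem vecN_pt3 (c : ℕ) : vecN c (pt 3) = (dg c 15 : ℤ) - 16 := by
  unfold vecN
  rw [idx_pt (by norm_num)]

/-- The list of all the vectors. -/
theorem cover {y : leechLattice} (hy : y ∈ orbit ↥G2 b0El) : ∃ τ < 23, ∃ u ∈ QQ 1, y = u • vl (D.rootF τ) := by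
  have hr : ∀ l ∈ D.rootLit, vecN l ∈ leechLattice ∧ l < 32 ^ 24 := by
    intro l hl
    obtain ⟨τ, hτ, rfl⟩ := root_idx hl
    obtain ⟨h1, h2⟩ := root_code hτ
    refine ⟨?_, h2⟩
    rw [h1]
    exact root_LV hτ
  obtain ⟨FA, a1, a2, a3⟩ := run_list (gensF_genP (a := 1) (by norm_num) (by norm_num)) D.rootsA D.roots_nd.1
    (fun l hl => hr l (D.roots_sub.1 l hl)) _ _ _ D.run_bigA
  obtain ⟨FB, b1, b2, b3⟩ := run_list (gensF_genP (a := 1) (by norm_num) (by norm_num)) D.rootsB D.roots_nd.2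
    (fun l hl => hr l (D.roots_sub.2 l hl)) _ _ _ D.run_bigB
  have hdisj : ∀ a ∈ FA, ∀ b ∈ FB, a ≠ b := by
    rintro a ha b hb rfl
    obtain ⟨-, -, r, hr1, hS⟩ := a3 a ha
    obtain ⟨-, -, r', hr2, hS'⟩ := b3 a hb
    have h1 := same_coord hS
    have h2 := same_coord hS'
    rw [vecN_pt3, vecN_pt3, D.coordA r hr1] at h1
    rw [vecN_pt3, vecN_pt3] at h2
    have h3 := D.coordB r' hr2
    omega
  set F : List ℕ := FA ++ FB with hF
  have h1 : F.length = 47104 := by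
    rw [hF, List.length_append, a1, b1, D.roots_len.1, D.roots_len.2]
  have h2 : F.Nodup := by
    rw [hF, List.nodup_append]
    exact ⟨a2, b2, hdisj⟩
  have h3 : ∀ l ∈ F, vecN l ∈ leechLattice ∧ l < 32 ^ 24 ∧ ∃ r ∈ D.rootLit, SameIn (AA 1) (vecN r) (vecN l) := by
    intro l hl
    rcases List.mem_append.1 hl with h | h
    · obtain ⟨p1, p2, r, p3, p4⟩ := a3 l h
      exact ⟨p1, p2, r, D.roots_sub.1 r p3, p4⟩
    · obtain ⟨p1, p2, r, p3, p4⟩ := b3 l h
      exact ⟨p1, p2, r, D.roots_sub.2 r p3, p4⟩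
  have hsub : {z : leechLattice | z.1 ∈ F.map vecN} ⊆ orbit ↥G2 b0El := by
    intro z hz
    obtain ⟨l, hl, e⟩ := List.mem_map.1 hz
    obtain ⟨-, -, r, hr', hx, hy', g, ⟨u, hu, rfl⟩, e'⟩ := h3 l hl
    obtain ⟨τ, hτ, rfl⟩ := root_idx hr'
    obtain ⟨g1, hg1⟩ := root_orbit τ
    refine ⟨u * g1, ?_⟩
    show (u * g1) • b0El = z
    have hg1' : g1 • b0El = vl (D.rootF τ) := hg1
    rw [mul_smul, hg1', vl_eq (root_LV hτ)]
    apply Subtype.ext
    rw [← e]
    have e2 : (⟨vecOf (D.rootF τ), root_LV hτ⟩ : leechLattice) = ⟨vecN (encL (D.rootF τ)), hx⟩ :=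
      Subtype.ext (root_code hτ).1.symm
    rw [e2]
    exact congrArg Subtype.val e'
  have hn := ncard_list h2 (fun l hl => ⟨(h3 l hl).1, (h3 l hl).2.1⟩)
  have hE : {z : leechLattice | z.1 ∈ F.map vecN} = orbit ↥G2 b0El := by
    refine Set.eq_of_subset_of_ncard_le hsub ?_ orbit_fin
    rw [ncard_orbit, hn, h1]
  have hy2 : y ∈ {z : leechLattice | z.1 ∈ F.map vecN} := by
    rw [hE]
    exact hy
  obtain ⟨l, hl, e⟩ := List.mem_map.1 hy2
  obtain ⟨-, -, r, hr', hx, hy', g, ⟨u, hu, rfl⟩, e'⟩ := h3 l hl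
  obtain ⟨τ, hτ, rfl⟩ := root_idx hr'
  refine ⟨τ, hτ, u, hu, ?_⟩
  rw [vl_eq (root_LV hτ)]
  apply Subtype.ext
  rw [← e]
  have e2 : (⟨vecOf (D.rootF τ), root_LV hτ⟩ : leechLattice) = ⟨vecN (encL (D.rootF τ)), hx⟩ :=
    Subtype.ext (root_code hτ).1.symm
  rw [e2]
  exact (congrArg Subtype.val e').symm

/-! ### The orbits -/

/-- The sizes of the orbits. -/
def nL : List ℕ := [1, 2025, 15400, 22275, 7128, 275]

/-- The orders of the stabilisers. -/
def mL : List ℕ := [898128000, 443520, 58320, 40320, 126000, 3265920]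

theorem hm_all {a : ℕ} (ha : a < 6) : mL.getD a 0 ≤ Nat.card (QQ a) := by
  interval_cases a
  · show 898128000 ≤ _
    unfold QQ
    rw [if_pos rfl, card_Kc]
  · have h := D.runA1
    have h2 := D.runB1
    rw [← D.xc1_eq] at h
    rw [← D.vgc_eq] at h2
    exact hm_gen (Or.inl rfl) _ _ _ h _ _ _ h2
  · have h := D.runA2
    have h2 := D.runB2
    rw [← D.xc2_eq] at h
    rw [← D.vgc_eq] at h2
    exact hm_gen (Or.inr (Or.inl rfl)) _ _ _ h _ _ _ h2
  · have h := D.runA3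
    have h2 := D.runB3
    rw [← D.xc3_eq] at h
    rw [← D.vgc_eq] at h2
    exact hm_gen (Or.inr (Or.inr (Or.inl rfl))) _ _ _ h _ _ _ h2
  · have h := D.runA4
    have h2 := D.runB4
    rw [← D.xc4_eq] at h
    rw [← D.vgc_eq] at h2
    exact hm_gen (Or.inr (Or.inr (Or.inr (Or.inl rfl)))) _ _ _ h _ _ _ h2
  · have h := D.runA5
    have h2 := D.runB5
    rw [← D.xc5_eq] at h
    rw [← D.vgc_eq] at h2
    exact hm_gen (Or.inr (Or.inr (Or.inr (Or.inr rfl)))) _ _ _ h _ _ _ h2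

theorem data_orbits : (∀ a : Fin 6, QQ a = Kc ⊓ stabilizer ↥G2 (EE a • b0El)) ∧
    ∀ a b : Fin 6, (∃ k ∈ Kc, k • (EE a • b0El) = EE b • b0El) → a = b := by
  refine orbit_data (G := ↥G2) Kc (fun a : Fin 6 => EE a • b0El) (fun a => QQ a) (fun a => nL.getD a 0) (fun a => mL.getD a 0)
    (fun a => QQ_le a.2) (fun a => hm_all a.2) ?_ ?_ ?_ (orbit ↥G2 b0El) orbit_fin ?_ ?_
  · intro a
    fin_cases a <;> decide
  · intro a
    fin_cases a <;> decide
  · intro a
    rw [card_Kc]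
    fin_cases a <;> decide
  · rw [ncard_orbit]
    decide
  · intro y hy
    obtain ⟨τ, hτ, u, hu, rfl⟩ := cover hy
    obtain ⟨h1, h2, -⟩ := root_chk hτ
    refine ⟨⟨_, h2⟩, ⟨u * kW (D.wTLit.getD τ []), mul_mem (QQ_le_Kc (by norm_num) hu) (kW_mem h1)⟩, ?_⟩
    show (u * kW (D.wTLit.getD τ [])) • (EE (D.atLit.getD τ 0) • b0El) = _
    rw [mul_smul, ← root_smul hτ]

/-! ### The relations -/

/-- The commutative group structure of the centre. -/
noncomputable instance centerCG {Γ : Type} [Group Γ] : CommGroup ↥(Subgroup.center Γ) :=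
  { (inferInstance : Group ↥(Subgroup.center Γ)) with
    mul_comm := fun a b => Subtype.ext (Subgroup.mem_center_iff.1 b.2 a.1) }

section Final

variable {Γ : Type} [Group Γ] {σ : Γ →* ↥G2} {C : Sct σ b0El} (L : Ell C tG)

/-- The values on the classes. -/
noncomputable def xx (τ : ℕ) : ↥(Subgroup.center Γ) :=
  ⟨L.Cy (vl (D.rootF τ)), C.hc (MonoidHom.mem_ker.2 (L.Cy_ker _))⟩

theorem xx_prod (r : List (List ℕ × ℕ)) :
    ((((r.map Prod.snd).map (xx L)).prod : ↥(Subgroup.center Γ)) : Γ) = (r.map fun p => L.Cy (vl (D.rootF p.2))).prod := by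
  induction r with
  | nil => rfl
  | cons a r ih =>
    simp only [List.map_cons, List.prod_cons, Subgroup.coe_mul]
    rw [ih]
    rfl

theorem instOK_parts {ks : List (List (List ℕ))} {p : List ℤ × List (List ℕ × ℕ)} (h : D.instOK ks p = true) :
    LV p.1 ∧ chkW D.tf D.rootF ks p.2 p.1 = true ∧ ∀ i ∈ p.2.map Prod.snd, i < 23 := by
  simp only [D.instOK, Bool.and_eq_true, List.all_eq_true, Nat.blt_eq] at h
  exact ⟨inLattice_sound h.1.1, h.1.2, h.2⟩

theorem walk_row {ks : List (List (List ℕ))} (hne : ks ≠ []) (hks : ks.all okW = true)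
    (hW : ∀ i < 24, wF D.tf ks (eiL i) = eiL i) {b p : List ℤ × List (List ℕ × ℕ)} (hb : D.instOK ks b = true)
    (hp : D.instOK ks p = true) : evF (xx L) 23 (fun i => (D.rowOf b p).getD i 0) = 1 := by
  obtain ⟨b1, b2, b3⟩ := instOK_parts hb
  obtain ⟨p1, p2, p3⟩ := instOK_parts hp
  refine diffRow_ev (xx L) 23 _ _ p3 b3 ?_
  apply Subtype.ext
  rw [xx_prod, xx_prod]
  exact walk_rel L tG_acts tG_inv root_orbit ks hne hks hW p.2 b.2 p.1 b.1 p1 b1 p2 b2

theorem x_known (htree : ∀ b par : Fin 6, ∀ k, gw (D.ksL b) = gw (D.ksL par) ++ [k] → L.cc (k * wG tG (gw (D.ksL par))) = 1)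
    (hst : L.cc (kW D.wStar * wG tG (gw (D.ksL 1))) = 1) : ∀ τ ∈ D.knownL, xx L τ = 1 := by
  have hknown : D.knownL = D.treeL.map (fun e => e.2.2.2) ++ [10] := by decide +kernel
  intro τ hτ
  rw [hknown] at hτ
  rcases List.mem_append.1 hτ with h | h
  · obtain ⟨e, he, rfl⟩ := List.mem_map.1 h
    have h1 := List.all_eq_true.1 D.chk_tree e he
    simp only [D.treeOK1, Bool.and_eq_true, beq_iff_eq, Nat.blt_eq] at h1
    obtain ⟨⟨⟨⟨⟨h2, h3⟩, h4⟩, h5⟩, h6⟩, h7⟩ := h1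
    apply Subtype.ext
    show L.Cy (vl (D.rootF e.2.2.2)) = 1
    have e0 : kW e.2.2.1 • vl (D.yA e.2.1) = vl (fW e.2.2.1 (D.yA e.2.1)) := acts_vl (kW_acts h5) (LV_y h3)
    have e1 : vl (D.rootF e.2.2.2) = (kW e.2.2.1 * EE e.2.1) • b0El := by
      rw [mul_smul, EE_smul h3, e0, h7]
    rw [e1, L.Cy_smul]
    refine htree ⟨e.1, h2⟩ ⟨e.2.1, h3⟩ (kW e.2.2.1) ?_
    show (D.ksL e.1).map kW = (D.ksL e.2.1).map kW ++ [kW e.2.2.1]
    rw [h4]
    simp
  · rw [List.mem_singleton] at h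
    subst h
    apply Subtype.ext
    show L.Cy (vl (D.rootF 10)) = 1
    have h1 := D.chk_star
    simp only [Bool.and_eq_true, beq_iff_eq] at h1
    obtain ⟨⟨⟨h2, h3⟩, h4⟩, h5⟩ := h1
    have e0 : kW D.wStar • vl (D.yA 1) = vl (fW D.wStar (D.yA 1)) := acts_vl (kW_acts h2) (LV_y (by norm_num))
    have e1 : vl (D.rootF 10) = (kW D.wStar * EE 1) • b0El := by
      rw [mul_smul, EE_smul (by norm_num), e0, h4]
    rw [e1, L.Cy_smul]
    exact hst

theorem x_all (htree : ∀ b par : Fin 6, ∀ k, gw (D.ksL b) = gw (D.ksL par) ++ [k] → L.cc (k * wG tG (gw (D.ksL par))) = 1)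
    (hst : L.cc (kW D.wStar * wG tG (gw (D.ksL 1))) = 1) {j : ℕ} (hj : j < 23) : xx L j = 1 := by
  have hk := x_known L htree hst
  have ht2 := D.chk_t2
  have ht7 := D.chk_w7i
  simp only [Bool.and_eq_true, List.all_eq_true] at ht2 ht7
  have hr : ∀ r ∈ D.rowsLit, evF (xx L) 23 (fun i => r.getD i 0) = 1 := by
    intro r hr
    rw [← D.rows_eq] at hr
    simp only [D.rowsAll, List.mem_append, List.mem_map] at hr
    rcases hr with (⟨τ, hτ, rfl⟩ | ⟨p, hp, rfl⟩) | ⟨p, hp, rfl⟩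
    · have hτ' : τ < 23 := by
        have := List.all_eq_true.1 D.chk_known2 τ hτ
        simpa using this
      exact unitRow_ev (xx L) 23 τ hτ' (hk τ hτ)
    · exact walk_row L (by decide) D.chk_ks2.1 D.chk_w2t ht2.1 (ht2.2 p hp)
    · exact walk_row L (by decide +kernel) D.chk_ks2.2 D.chk_w7 ht7.1 (ht7.2 p hp)
  refine solve (xx L) 23 D.rowsLit hr (D.cLit.getD j []) j hj ?_
  intro i hi
  have h1 := List.all_eq_true.1 (List.all_eq_true.1 D.chk_comb j (List.mem_range.2 hj)) i (List.mem_range.2 hi)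
  simpa only [beq_iff_eq] using h1

theorem final_all (htree : ∀ b par : Fin 6, ∀ k, gw (D.ksL b) = gw (D.ksL par) ++ [k] → L.cc (k * wG tG (gw (D.ksL par))) = 1)
    (hst : L.cc (kW D.wStar * wG tG (gw (D.ksL 1))) = 1) (g : ↥G2) : L.cc g = 1 := by
  rw [← L.Cy_smul]
  obtain ⟨τ, hτ, u, hu, e⟩ := cover (y := g • b0El) ⟨g, rfl⟩
  rw [e]
  have hu1 := QQ_le (a := 1) (by norm_num) hu
  have hfix : u • (tG⁻¹ • b0El) = tG⁻¹ • b0El := by
    rw [tG_inv]
    have := hu1.2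
    rw [EE1] at this
    exact this
  rw [L.Cy_inv hu1.1 hfix]
  exact congrArg Subtype.val (x_all L htree hst hτ)

end Final

/-- The main theorem. -/
theorem trivMult_G2 : TrivMult ↥G2 := by
  obtain ⟨hQe, hDj⟩ := data_orbits
  have hg1 : ∀ {Γ : Type} [Group Γ] {σ : Γ →* ↥G2} (C : Sct σ b0El), ∀ w ∈ Kc, w • (tG • b0El) = tG • b0El → C.Gd tG w := by
    intro Γ _ σ C w hw hf
    have hw' : w ∈ QQ 1 := by
      have h := hQe 1
      have h1 : QQ 1 = Kc ⊓ stabilizer ↥G2 (EE 1 • b0El) := h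
      rw [h1, EE1]
      exact ⟨hw, hf⟩
    refine C.Gd_perfect (QQ 1) (QQ_le_Kc (by norm_num)) ?_ perf_QQ1 hw'
    intro q hq
    have h2 := QQ_le (a := 1) (by norm_num) hq
    have h3 := h2.2
    rw [EE1] at h3
    have h4 : q • (tG • b0El) = tG • b0El := h3
    rw [mem_stabilizer_iff, mul_smul, mul_smul, h4, inv_smul_smul]
  have ks0 : D.ksL 0 = [] := by decide +kernel
  have ks1 : D.ksL 1 = [[]] := by decide +kernel
  have hstar0 := D.chk_star
  simp only [Bool.and_eq_true, beq_iff_eq] at hstar0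
  obtain ⟨⟨⟨hs1, hs2⟩, hs3⟩, hs4⟩ := hstar0
  refine trivMult_of_cone_sec (ω₀ := b0El) (fun Γ _ _ σ h => exists_section σ h) tG
    (ι := Fin 6) (fun a => gw (D.ksL a)) (fun a => ks_mem a.2) 0 (by simp [ks0, gw]) 1 (kW []) (by simp [ks1, gw]) ?_ ?_ ?_
    1 1 rfl (kW D.wStar) (kW D.h1Star) (kW_mem hs1) (kW_mem hs2) ?_ ?_
  · intro g
    obtain ⟨τ, hτ, u, hu, e⟩ := cover (y := g • b0El) ⟨g, rfl⟩
    obtain ⟨h1, h2, -⟩ := root_chk hτ
    refine ⟨⟨_, h2⟩, u * kW (D.wTLit.getD τ []), mul_mem (QQ_le_Kc (by norm_num) hu) (kW_mem h1), ?_⟩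
    show g • b0El = (u * kW (D.wTLit.getD τ [])) • (EE (D.atLit.getD τ 0) • b0El)
    rw [mul_smul, ← root_smul hτ]
    exact e
  · intro a b k hk e
    exact hDj a b ⟨k, hk, e⟩
  · intro Γ _ _ σ C a v hv hfix
    have hmem : v ∈ QQ a := by
      rw [hQe a]
      exact ⟨hv, hfix⟩
    show C.Gd (EE a) v
    by_cases ha0 : (a : ℕ) = 0
    · have : a = 0 := Fin.ext ha0
      subst this
      exact C.Gd_mem (one_mem _) hv
    · by_cases ha1 : (a : ℕ) = 1
      · have : a = 1 := Fin.ext ha1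
        subst this
        have e1 : EE ((1 : Fin 6) : ℕ) = tG := EE1
        rw [e1]
        refine hg1 C v hv ?_
        have h2 : v • (EE ((1 : Fin 6) : ℕ) • b0El) = EE ((1 : Fin 6) : ℕ) • b0El := hfix
        rwa [e1] at h2
      · unfold QQ at hmem
        rw [if_neg ha0] at hmem
        refine C.Gd_closure ?_ hmem
        rintro _ ⟨e, he, rfl⟩
        exact gE_good C (hg1 C) a.2 (genOK_of a.2 he)
  · show (tG * kW D.wStar * EE 1) • b0El = (kW D.h1Star * EE 1) • b0El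
    have e0 : kW D.wStar • vl (D.yA 1) = vl (fW D.wStar (D.yA 1)) := acts_vl (kW_acts hs1) (LV_y (by norm_num))
    have e1 : kW D.h1Star • vl (D.yA 1) = vl (fW D.h1Star (D.yA 1)) := acts_vl (kW_acts hs2) (LV_y (by norm_num))
    have e2 : tG • vl (D.rootF 10) = vl (D.tf (D.rootF 10)) := acts_vl tG_acts (root_LV (by norm_num))
    rw [mul_smul, mul_smul, mul_smul, EE_smul (by norm_num), e0, hs3, e1, ← of_decide_eq_true hs4, e2]
  · intro Γ _ _ σ C L htree hst g
    exact final_all L (fun b par k => htree b par k) hst g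

end Cfsg.Agent.Lib.Sporadic.Co2Mult
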