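import Cfsg.Agent.Lib.Compute.Schur2.McL.Main
import Cfsg.Agent.Lib.Compute.Schur2.McL.Cover
import Cfsg.Agent.Lib.Sporadic.Co3Mult.ConeMain
import Cfsg.Agent.Lib.Sporadic.Co3Mult.Lists

/-!
# The section over `McL` in a stem extension of `Co₂`
-/

set_option autoImplicit false
set_option maxRecDepth 1000000

namespace Cfsg.Agent.Lib.Sporadic.Co2Mult

open MulAction Cfsg Cfsg.Agent.Lib.Sporadic.GolayCore Cfsg.Agent.Lib.Sporadic.LeechBasic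
  Cfsg.Agent.Lib.Sporadic.LeechNorm Cfsg.Agent.Lib.Sporadic.LeechFacts
  Cfsg.Agent.Lib.Sporadic.LeechAut Cfsg.Agent.Lib.Sporadic.LeechMat
  Cfsg.Agent.Lib.Sporadic.LeechKey Cfsg.Agent.Lib.Sporadic.LeechEnum
  Cfsg.Agent.Lib.Sporadic.LeechA0 Cfsg.Agent.Lib.Sporadic.LeechMcLData Cfsg.Agent.Lib.Sporadic.LeechMcL
  Cfsg.Agent.Lib.Sporadic.LeechRep Cfsg.Agent.Lib.Sporadic.Co3Mult
  Cfsg.Agent.Lib.Compute.SchurLin Cfsg.Agent.Lib.Compute.PermCert Cfsg.Agent.Lib.Compute.Schur2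
  Cfsg.Agent.Lib.Compute.ToddCoxeterCore

/-- The group `Co₂`, as a subgroup of `Co0`. -/
abbrev G2 : Subgroup Co0 := stabilizer Co0 a0

/-- The subgroup `McL`. -/
noncomputable abbrev Kc : Subgroup ↥G2 := stabilizer ↥G2 b0El

/-- The two descriptions of the subgroup. -/
noncomputable def e1 : ↥Kc ≃* ↥(StabL FM) where
  toFun z := ⟨z.1.1, mem_FM.2 ⟨z.1.2, z.2⟩⟩
  invFun z := ⟨⟨z.1, (mem_FM.1 z.2).1⟩, (mem_FM.1 z.2).2⟩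
  left_inv _ := rfl
  right_inv _ := rfl
  map_mul' _ _ := rfl

open Cfsg.Agent.Lib.Sporadic.McLOut.Main in
/-- The action on the 275 vectors. -/
noncomputable def e2 : ↥(StabL FM) ≃* ↥K :=
  MulEquiv.ofBijective phi.rangeRestrict
    ⟨MonoidHom.rangeRestrict_injective_iff.2 hRep.2, MonoidHom.rangeRestrict_surjective _⟩

/-- The subgroup, as a permutation group. -/
noncomputable def eK : ↥Kc ≃* ↥Cfsg.Agent.Lib.Sporadic.McLOut.Main.K := e1.trans e2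

open Cfsg.Agent.Lib.Sporadic.McLOut.Main Cfsg.Agent.Lib.Compute.Schur2.McL.M in
/-- An element with a known action on the 275 vectors. -/
theorem eK_eq {z : ↥Kc} {f : List ℤ → List ℤ} (hf : Acts ((z : ↥G2) : Co0) f) {u : List ℕ}
    (hc : (List.range 275).all (fun i => f (X275.getD i []) == X275.getD (wordPt 9 511 es u i) []) = true) :
    eK z = wordEl (ltr gK) u := by
  apply Subtype.ext
  rw [coe_wordEl_gP hmem]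
  apply Equiv.ext
  intro i
  apply Fin.ext
  rw [wordEl_gPerm validEs]
  have h1 : ((eK z : ↥K) : Equiv.Perm (Fin 275)) i = phi (e1 z) i := rfl
  rw [h1]
  have hi : (i : ℕ) ∈ List.range 275 := List.mem_range.2 i.2
  have h2 := List.all_eq_true.1 hc _ hi
  rw [beq_iff_eq] at h2
  have hltw : wordPt 9 511 es u i < 275 := by
    rw [← wordEl_gPerm validEs]
    exact Fin.isLt _
  apply congrArg Fin.val (a₁ := phi (e1 z) i) (a₂ := ⟨wordPt 9 511 es u i, hltw⟩)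
  apply ptOf_inj hN X275_len X275_nodup X275_mem_lat
  rw [rep_spec]
  apply Subtype.ext
  show (((z : ↥G2) : Co0) • (⟨vecOf (X275.getD i []), _⟩ : leechLattice) : leechLattice).1 =
    vecOf (X275.getD (wordPt 9 511 es u i) [])
  rw [hf, h2]

set_option maxHeartbeats 0 in
/-- The element `Q₁`. -/
def tiL : List (List ℤ) := [[0,0,1,-1,0,1,0,0,-1,3,0,0,0,0,0,0,0,-1,0,-1,0,0,-1,0],[-1,1,0,0,-1,0,1,-1,0,0,1,1,1,-1,-1,1,1,0,1,0,1,-1,0,1],[0,0,3,1,0,-1,0,0,1,1,0,0,0,0,0,0,0,1,0,1,0,0,1,0],[0,0,1,3,0,1,0,0,-1,-1,0,0,0,0,0,0,0,-1,0,-1,0,0,-1,0],[-1,-1,0,0,1,0,1,-1,0,0,1,-1,1,1,1,1,-1,0,1,0,-1,1,0,1],[0,0,-1,1,0,3,0,0,1,1,0,0,0,0,0,0,0,1,0,1,0,0,1,0],[0,0,1,-1,0,1,0,0,-1,-1,0,0,0,0,0,0,0,-1,0,3,0,0,-1,0],[0,0,1,-1,0,1,0,0,-1,-1,0,0,0,0,0,0,0,3,0,-1,0,0,-1,0],[0,0,1,-1,0,1,0,0,3,-1,0,0,0,0,0,0,0,-1,0,-1,0,0,-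1,0],[1,-1,0,0,-1,0,1,1,0,0,1,1,-1,1,1,1,1,0,1,0,-1,-1,0,-1],[1,1,0,0,-1,0,1,-1,0,0,1,-1,-1,1,1,-1,1,0,-1,0,1,1,0,1],[1,1,0,0,-1,0,-1,1,0,0,1,1,1,-1,1,1,-1,0,-1,0,-1,1,0,1],[-1,1,0,0,-1,0,-1,1,0,0,-1,-1,1,1,1,1,1,0,1,0,1,1,0,-1],[1,-1,0,0,1,0,-1,1,0,0,1,-1,1,1,-1,1,1,0,-1,0,1,-1,0,1],[1,1,0,0,1,0,-1,-1,0,0,-1,1,-1,1,1,1,-1,0,1,0,1,-1,0,1],[1,-1,0,0,1,0,1,-1,0,0,-1,1,1,-1,1,1,1,0,-1,0,1,1,0,-1],[1,1,0,0,1,0,-1,-1,0,0,1,1,1,1,-1,-1,1,0,1,0,-1,1,0,-1],[1,-1,0,0,-1,0,1,1,0,0,-1,1,1,1,-1,-1,-1,0,1,0,1,1,0,1],[0,0,1,-1,0,1,0,0,-1,-1,0,0,0,0,0,0,0,-1,0,-1,0,0,3,0],[1,1,0,0,1,0,1,1,0,0,1,-1,-1,-1,-1,1,-1,0,1,0,1,1,0,-1],[-1,1,0,0,1,0,1,1,0,0,1,1,1,1,1,-1,-1,0,-1,0,1,-1,0,-1],[-1,1,0,0,1,0,1,1,0,0,-1,1,-1,1,-1,1,1,0,-1,0,-1,1,0,1],[1,1,0,0,1,0,1,1,0,0,-1,-1,1,-1,1,-1,1,0,1,0,-1,-1,0,1],[-1,-1,0,0,1,0,-1,1,0,0,1,1,-1,-1,1,-1,1,0,1,0,1,1,0,1]]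
set_option maxHeartbeats 0 in
/-- The element `Q₂`. -/
def tfL : List (List ℤ) := [[1,1,-1,0,-1,0,0,-1,0,1,1,-1,0,0,1,-1,0,1,-1,0,1,1,1,1],[0,0,0,1,0,-1,1,0,1,0,0,0,3,1,0,0,1,0,0,1,0,0,0,0],[-1,1,1,0,-1,0,0,1,0,-1,-1,1,0,0,1,-1,0,1,1,0,1,-1,1,1],[0,0,0,3,0,1,-1,0,-1,0,0,0,1,-1,0,0,-1,0,0,-1,0,0,0,0],[1,-1,1,0,1,0,0,-1,0,1,-1,1,0,0,1,-1,0,1,1,0,-1,1,-1,1],[0,0,0,1,0,3,1,0,1,0,0,0,-1,1,0,0,1,0,0,1,0,0,0,0],[-1,-1,1,0,-1,0,0,1,0,1,1,-1,0,0,-1,1,0,1,1,0,1,1,-1,1],[0,0,0,-1,0,1,3,0,-1,0,0,0,1,-1,0,0,-1,0,0,-1,0,0,0,0],[0,0,0,-1,0,1,-1,0,3,0,0,0,1,-1,0,0,-1,0,0,-1,0,0,0,0],[1,1,-1,0,1,0,0,1,0,1,1,1,0,0,-1,-1,0,-1,1,0,1,-1,-1,1],[0,0,0,-1,0,1,-1,0,-1,0,0,0,1,3,0,0,-1,0,0,-1,0,0,0,0],[-1,1,-1,0,1,0,0,-1,0,-1,1,1,0,0,1,1,0,1,1,0,1,1,-1,-1],[1,1,1,0,-1,0,0,-1,0,1,-1,1,0,0,-1,1,0,-1,1,0,1,1,1,-1],[1,-1,-1,0,-1,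0,0,1,0,1,1,1,0,0,1,1,0,1,1,0,-1,-1,1,-1],[-1,-1,1,0,1,0,0,-1,0,1,1,1,0,0,1,1,0,-1,-1,0,1,-1,1,1],[1,1,1,0,-1,0,0,1,0,-1,1,1,0,0,1,1,0,-1,-1,0,-1,1,-1,1],[0,0,0,-1,0,1,-1,0,-1,0,0,0,1,-1,0,0,3,0,0,-1,0,0,0,0],[0,0,0,-1,0,1,-1,0,-1,0,0,0,1,-1,0,0,-1,0,0,3,0,0,0,0],[-1,1,1,0,1,0,0,1,0,1,1,-1,0,0,1,-1,0,-1,1,0,-1,1,1,-1],[1,-1,1,0,1,0,0,1,0,-1,1,1,0,0,-1,-1,0,1,-1,0,1,1,1,-1],[1,1,1,0,1,0,0,1,0,1,-1,-1,0,0,1,1,0,1,-1,0,1,-1,-1,-1],[-1,1,-1,0,1,0,0,1,0,1,-1,1,0,0,-1,1,0,1,-1,0,-1,1,1,1],[1,1,1,0,1,0,0,-1,0,-1,1,-1,0,0,-1,1,0,1,1,0,-1,-1,1,1],[1,-1,-1,0,1,0,0,1,0,-1,-1,-1,0,0,1,1,0,-1,1,0,1,1,1,1]]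
set_option maxHeartbeats 0 in
/-- The reflection. -/
def ttL : List (List ℤ) := [[2,0,2,0,0,0,-1,-1,-1,-1,-1,0,0,-1,0,0,-1,0,-1,0,0,0,0,0],[0,2,0,0,0,0,1,-1,-1,-1,1,0,0,-1,0,0,1,2,1,0,0,0,0,0],[2,0,2,0,0,0,1,1,1,1,1,0,0,1,0,0,1,0,1,0,0,0,0,0],[0,0,0,2,0,2,-1,-1,-1,1,1,0,0,1,0,0,1,0,-1,0,0,0,0,0],[0,0,0,0,2,0,-1,-1,1,-1,1,0,0,1,0,2,-1,0,1,0,0,0,0,0],[0,0,0,2,0,2,1,1,1,-1,-1,0,0,-1,0,0,-1,0,1,0,0,0,0,0],[-1,1,1,-1,-1,1,0,0,0,0,0,-1,-1,0,1,1,0,-1,0,1,1,1,-1,-1],[-1,-1,1,-1,-1,1,0,0,0,0,0,1,1,0,-1,1,0,1,0,-1,1,-1,-1,1],[-1,-1,1,-1,1,1,0,0,0,0,0,-1,-1,0,-1,-1,0,1,0,1,-1,1,1,1],[-1,-1,1,1,-1,-1,0,0,0,0,0,1,-1,0,1,1,0,1,0,1,-1,-1,1,-1],[-1,1,1,1,1,-1,0,0,0,0,0,1,-1,0,-1,-1,0,-1,0,1,1,-1,-1,1],[0,0,0,0,0,0,-1,1,-1,1,1,2,0,-1,0,0,-1,0,1,0,0,2,0,0],[0,0,0,0,0,0,-1,1,-1,-1,-1,0,2,1,0,0,1,0,1,2,0,0,0,0],[-1,-1,1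,1,1,-1,0,0,0,0,0,-1,1,0,1,-1,0,1,0,-1,1,1,-1,-1],[0,0,0,0,0,0,1,-1,-1,1,-1,0,0,1,2,0,-1,0,1,0,0,0,0,2],[0,0,0,0,2,0,1,1,-1,1,-1,0,0,-1,0,2,1,0,-1,0,0,0,0,0],[-1,1,1,1,-1,-1,0,0,0,0,0,-1,1,0,-1,1,0,-1,0,-1,-1,1,1,1],[0,2,0,0,0,0,-1,1,1,1,-1,0,0,1,0,0,-1,2,-1,0,0,0,0,0],[-1,1,1,-1,1,1,0,0,0,0,0,1,1,0,1,-1,0,-1,0,-1,-1,-1,1,-1],[0,0,0,0,0,0,1,-1,1,1,1,0,2,-1,0,0,-1,0,-1,2,0,0,0,0],[0,0,0,0,0,0,1,1,-1,-1,1,0,0,1,0,0,-1,0,-1,0,2,0,2,0],[0,0,0,0,0,0,1,-1,1,-1,-1,2,0,1,0,0,1,0,-1,0,0,2,0,0],[0,0,0,0,0,0,-1,-1,1,1,-1,0,0,-1,0,0,1,0,1,0,2,0,2,0],[0,0,0,0,0,0,-1,1,1,-1,1,0,0,-1,2,0,1,0,-1,0,0,0,0,2]]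

theorem ti_ok : matCheck tiL 4 = true := by decide +kernel
theorem tf_ok : matCheck tfL 4 = true := by decide +kernel
theorem tt_ok : matCheck ttL 4 = true := by decide +kernel

/-- The action of `Q₁`. -/
def fi (l : List ℤ) : List ℤ := matL tiL 4 l
/-- The action of `Q₂`. -/
def ff (l : List ℤ) : List ℤ := matL tfL 4 l
/-- The action of the reflection. -/
def ft (l : List ℤ) : List ℤ := matL ttL 4 l

theorem fix_chk : fi a0L = a0L ∧ fi b0L = b0L ∧ ff a0L = a0L ∧ ff b0L = b0L ∧ ft a0L = a0L := by decide +kernel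

theorem fix_of {g : Co0} {f : List ℤ → List ℤ} (h : Acts g f) {l : List ℤ} (hl : vecOf l ∈ leechLattice) (e : f l = l) :
    g • (⟨vecOf l, hl⟩ : leechLattice) = ⟨vecOf l, hl⟩ := by
  apply Subtype.ext
  rw [h l hl, e]

/-- `Q₁` in the group. -/
noncomputable def Q1 : ↥G2 := ⟨matCo0 ti_ok, fix_of (acts_mat ti_ok) (inLattice_sound a0L_ok) fix_chk.1⟩
/-- `Q₂` in the group. -/
noncomputable def Q2 : ↥G2 := ⟨matCo0 tf_ok, fix_of (acts_mat tf_ok) (inLattice_sound a0L_ok) fix_chk.2.2.1⟩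
/-- The reflection in the group. -/
noncomputable def TR : ↥G2 := ⟨matCo0 tt_ok, fix_of (acts_mat tt_ok) (inLattice_sound a0L_ok) fix_chk.2.2.2.2⟩

theorem Q1_acts : Acts ((Q1 : ↥G2) : Co0) fi := acts_mat ti_ok
theorem Q2_acts : Acts ((Q2 : ↥G2) : Co0) ff := acts_mat tf_ok
theorem TR_acts : Acts ((TR : ↥G2) : Co0) ft := acts_mat tt_ok

theorem Q1_mem : Q1 ∈ Kc := fix_of (acts_mat ti_ok) (inLattice_sound b0L_ok) fix_chk.2.1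
theorem Q2_mem : Q2 ∈ Kc := fix_of (acts_mat tf_ok) (inLattice_sound b0L_ok) fix_chk.2.2.2.1

theorem one_acts : Acts (1 : Co0) id := by
  intro l hl
  show ((1 : Co0) • _ : leechLattice).1 = _
  rw [one_smul]
  rfl

theorem frame_eq {a b : ↥G2} {f f' : List ℤ → List ℤ} (ha : Acts (a : Co0) f) (hb : Acts (b : Co0) f')
    (h : ∀ i < 24, f (eiL i) = f' (eiL i)) : a = b :=
  Subtype.ext (eq_of_frame ha hb h)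

theorem Q1_cube : Q1 ^ 3 = 1 := by
  have e : Q1 ^ 3 = Q1 * (Q1 * Q1) := by
    rw [pow_succ, pow_two, mul_assoc]
  rw [e]
  refine frame_eq (f := fun l => fi (fi (fi l))) (f' := id) (Q1_acts.comp (Q1_acts.comp Q1_acts)) one_acts ?_
  decide +kernel

theorem Q_comm : Q1 * Q2 = Q2 * Q1 := by
  refine frame_eq (f := fun l => fi (ff l)) (f' := fun l => ff (fi l)) (Q1_acts.comp Q2_acts) (Q2_acts.comp Q1_acts) ?_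
  decide +kernel

theorem TR_two : TR * TR = 1 := by
  refine frame_eq (f := fun l => ft (ft l)) (f' := id) (TR_acts.comp TR_acts) one_acts ?_
  decide +kernel

theorem TR_inv : TR⁻¹ = TR := inv_eq_of_mul_eq_one_right TR_two

theorem TR_1 : TR⁻¹ * Q1 * TR = Q1⁻¹ := by
  rw [TR_inv, eq_inv_iff_mul_eq_one]
  have e : TR * Q1 * TR * Q1 = (TR * Q1) * (TR * Q1) := by group
  rw [e]
  refine frame_eq (f := fun l => ft (fi (ft (fi l)))) (f' := id)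
    ((TR_acts.comp Q1_acts).comp (TR_acts.comp Q1_acts)) one_acts ?_
  decide +kernel

theorem TR_2 : TR⁻¹ * Q2 * TR = Q2 := by
  rw [TR_inv]
  have e : TR * Q2 * TR = Q2 ↔ TR * Q2 = Q2 * TR := by
    constructor
    · intro h
      calc TR * Q2 = TR * Q2 * TR * TR⁻¹ := by group
        _ = Q2 * TR⁻¹ := by rw [h]
        _ = Q2 * TR := by rw [TR_inv]
    · intro h
      rw [h, mul_assoc, TR_two, mul_one]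
  rw [e]
  refine frame_eq (f := fun l => ft (ff l)) (f' := fun l => ff (ft l)) (TR_acts.comp Q2_acts) (Q2_acts.comp TR_acts) ?_
  decide +kernel

open Cfsg.Agent.Lib.Compute.Schur2.McL.M Cfsg.Agent.Lib.Compute.Schur2.McL.T in
theorem chk1 : (List.range 275).all (fun i => fi (ff (X275.getD i [])) == X275.getD (wordPt 9 511 es w1 i) []) = true := by
  decide +kernel

open Cfsg.Agent.Lib.Compute.Schur2.McL.M Cfsg.Agent.Lib.Compute.Schur2.McL.T in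
theorem chk2 : (List.range 275).all (fun i => ff (ff (X275.getD i [])) == X275.getD (wordPt 9 511 es w2 i) []) = true := by
  decide +kernel

/-- `Q₁` in the subgroup. -/
noncomputable def Q1K : ↥Kc := ⟨Q1, Q1_mem⟩
/-- `Q₂` in the subgroup. -/
noncomputable def Q2K : ↥Kc := ⟨Q2, Q2_mem⟩

/-- The first element of the pair. -/
noncomputable def q1K : ↥Kc := Q1K * Q2K
/-- The second element of the pair. -/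
noncomputable def q2K : ↥Kc := Q2K * Q2K

open Cfsg.Agent.Lib.Compute.Schur2.McL.M Cfsg.Agent.Lib.Compute.Schur2.McL.T in
theorem e_q1 : eK q1K = wordEl (ltr gK) w1 :=
  eK_eq (f := fun l => fi (ff l)) (Q1_acts.comp Q2_acts) chk1

open Cfsg.Agent.Lib.Compute.Schur2.McL.M Cfsg.Agent.Lib.Compute.Schur2.McL.T in
theorem e_q2 : eK q2K = wordEl (ltr gK) w2 :=
  eK_eq (f := fun l => ff (ff l)) (Q2_acts.comp Q2_acts) chk2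

theorem q_comm : q1K * q2K = q2K * q1K := by
  have h : Q1K * Q2K = Q2K * Q1K := Subtype.ext Q_comm
  unfold q1K q2K
  calc Q1K * Q2K * (Q2K * Q2K) = (Q1K * Q2K) * Q2K * Q2K := by group
    _ = (Q2K * Q1K) * Q2K * Q2K := by rw [h]
    _ = Q2K * (Q1K * Q2K) * Q2K := by group
    _ = Q2K * (Q2K * Q1K) * Q2K := by rw [h]
    _ = Q2K * Q2K * (Q1K * Q2K) := by group

open Cfsg.Agent.Lib.Compute.Schur2.McL.M Cfsg.Agent.Lib.Compute.Schur2.McL.T Cfsg.Agent.Lib.Sporadic.McLOut.Main in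
/-- The property of `McL`. -/
theorem coverK : commutator ↥K = ⊤ ∧ ∀ (Γ : Type) [Group Γ] [Finite Γ] (σ : Γ →* ↥K), IsStemExtension σ →
      (∀ a b : Γ, σ a = wordEl (ltr gK) w1 → σ b = wordEl (ltr gK) w2 → a * b = b * a) → Function.Injective σ := by
  have : Finite ↥K := Nat.finite_of_card_ne_zero (by rw [card_K]; norm_num)
  refine coverProp ↥K gK hrel hgen hcard ?_
  rw [← e_q1, ← e_q2, ← map_mul, ← map_mul, q_comm]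

/-- The subgroup `McL` is perfect. -/
theorem perf_Kc : commutator ↥Kc = ⊤ := commutator_top_of_equiv eK coverK.1

/-- The section. -/
theorem exists_section {Γ : Type} [Group Γ] [Finite Γ] (σ : Γ →* ↥G2) (hstem : IsStemExtension σ) :
    ∃ s : ↥Kc →* Γ, ∀ l, σ (s l) = l := by
  refine Cfsg.Agent.Lib.Compute.Schur2.Cover.exists_section_of_pair σ hstem.1 hstem.2.1 Kc perf_Kc q1K q2K ?_ ?_
  · intro Δ _ _ τ hτ hlift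
    have hker : (eK.toMonoidHom.comp τ).ker = τ.ker := by
      ext x
      simp [MonoidHom.mem_ker]
    have hst : IsStemExtension (eK.toMonoidHom.comp τ) := by
      refine ⟨eK.surjective.comp hτ.1, ?_, ?_⟩
      · rw [hker]; exact hτ.2.1
      · rw [hker]; exact hτ.2.2
    have hinj := coverK.2 Δ _ hst (fun a b ha hb => hlift a b (eK.injective (by
      rw [e_q1]; exact ha)) (eK.injective (by rw [e_q2]; exact hb)))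
    intro a b hab
    exact hinj (by simp [hab])
  · intro a b ha hb
    obtain ⟨a₁, ha₁⟩ := hstem.1 Q1
    obtain ⟨b₁, hb₁⟩ := hstem.1 Q2
    have hc := Cfsg.Agent.Lib.Compute.Schur2.Cover.comm_of_reflection σ hstem.1 hstem.2.1 Q1_cube Q_comm TR_1 TR_2 ha₁ hb₁
    have hcen : ∀ {x : Γ}, σ x = 1 → ∀ y : Γ, x * y = y * x := fun {x} hx y =>
      (Subgroup.mem_center_iff.mp (hstem.2.1 (MonoidHom.mem_ker.mpr hx)) y).symm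
    -- the elements
    have h1 : σ ((a₁ * b₁)⁻¹ * a) = 1 := by
      rw [map_mul, map_inv, map_mul, ha₁, hb₁, ha]
      show (Q1 * Q2)⁻¹ * (Q1 * Q2) = 1
      group
    have h2 : σ ((b₁ * b₁)⁻¹ * b) = 1 := by
      rw [map_mul, map_inv, map_mul, hb₁, hb]
      show (Q2 * Q2)⁻¹ * (Q2 * Q2) = 1
      group
    set z₁ := (a₁ * b₁)⁻¹ * a with hz₁
    set z₂ := (b₁ * b₁)⁻¹ * b with hz₂
    have ea : a = a₁ * b₁ * z₁ := by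
      rw [hz₁]; group
    have eb : b = b₁ * b₁ * z₂ := by
      rw [hz₂]; group
    rw [ea, eb]
    have hab : a₁ * b₁ * (b₁ * b₁) = b₁ * b₁ * (a₁ * b₁) := by
      calc a₁ * b₁ * (b₁ * b₁) = (a₁ * b₁) * b₁ * b₁ := by group
        _ = (b₁ * a₁) * b₁ * b₁ := by rw [hc]
        _ = b₁ * (a₁ * b₁) * b₁ := by group
        _ = b₁ * (b₁ * a₁) * b₁ := by rw [hc]
        _ = b₁ * b₁ * (a₁ * b₁) := by group
    calc a₁ * b₁ * z₁ * (b₁ * b₁ * z₂) = a₁ * b₁ * (z₁ * (b₁ * b₁)) * z₂ := by group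
      _ = a₁ * b₁ * ((b₁ * b₁) * z₁) * z₂ := by rw [hcen h1]
      _ = (a₁ * b₁ * (b₁ * b₁)) * (z₁ * z₂) := by group
      _ = (b₁ * b₁ * (a₁ * b₁)) * (z₁ * z₂) := by rw [hab]
      _ = b₁ * b₁ * (a₁ * b₁ * (z₁ * z₂)) := by group
      _ = b₁ * b₁ * (a₁ * b₁ * (z₂ * z₁)) := by rw [hcen h1 z₂]
      _ = b₁ * b₁ * ((a₁ * b₁ * z₂) * z₁) := by group
      _ = b₁ * b₁ * ((z₂ * (a₁ * b₁)) * z₁) := by rw [hcen h2 (a₁ * b₁)]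
      _ = _ := by group

end Cfsg.Agent.Lib.Sporadic.Co2Mult
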