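import Cfsg.Agent.Lib.Sporadic.Co2Mult.Section

/-!
# Elements of `McL` given by words in permutation tables and a matrix
-/

set_option autoImplicit false

namespace Cfsg.Agent.Lib.Sporadic.Co2Mult

open MulAction Cfsg Cfsg.Agent.Lib.Sporadic.GolayCore Cfsg.Agent.Lib.Sporadic.LeechBasic
  Cfsg.Agent.Lib.Sporadic.LeechNorm Cfsg.Agent.Lib.Sporadic.LeechFacts
  Cfsg.Agent.Lib.Sporadic.LeechAut Cfsg.Agent.Lib.Sporadic.LeechMat
  Cfsg.Agent.Lib.Sporadic.LeechKey Cfsg.Agent.Lib.Sporadic.LeechEnum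
  Cfsg.Agent.Lib.Sporadic.LeechA0 Cfsg.Agent.Lib.Sporadic.LeechMcLData Cfsg.Agent.Lib.Sporadic.LeechMcL
  Cfsg.Agent.Lib.Sporadic.LeechShape Cfsg.Agent.Lib.Sporadic.LeechTree
  Cfsg.Agent.Lib.Sporadic.M24Chain Cfsg.Agent.Lib.Sporadic.Co3Mult

/-- The check of a table of an element of `Co₂`. -/
def okT (T : List ℕ) : Bool :=
  goodT T && (List.range 24).all (fun i => (invP T).getD (T.getD i 0) 0 == i) && (permL (invP T) a0L == a0L) &&
    (invP T).all (fun t => Nat.blt t 24)

theorem okT_good {T : List ℕ} (h : okT T = true) : goodT T = true := by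
  simp only [okT, Bool.and_eq_true] at h
  exact h.1.1.1

theorem okT_inv {T : List ℕ} (h : okT T = true) :
    (List.range 24).all (fun i => (invP T).getD (T.getD i 0) 0 == i) = true := by
  simp only [okT, Bool.and_eq_true] at h
  exact h.1.1.2

theorem okT_fix {T : List ℕ} (h : okT T = true) : permL (invP T) a0L = a0L := by
  simp only [okT, Bool.and_eq_true, beq_iff_eq] at h
  exact h.1.2

theorem okT_lt {T : List ℕ} (h : okT T = true) : ∀ t ∈ invP T, t < 24 := by
  simp only [okT, Bool.and_eq_true, List.all_eq_true, Nat.blt_eq] at h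
  exact h.2

open Classical in
/-- The element of `Co₂` of a table. -/
noncomputable def pG (T : List ℕ) : ↥G2 :=
  if h : okT T = true then
    ⟨permCo0 (gPerm T (okT_good h)) (gPerm_mem (okT_good h)),
      fix_of (acts_perm (okT_good h) (okT_inv h)) (inLattice_sound a0L_ok) (okT_fix h)⟩
  else 1

theorem pG_acts {T : List ℕ} (h : okT T = true) : Acts (pG T : Co0) (permL (invP T)) := by
  classical
  unfold pG
  rw [dif_pos h]
  exact acts_perm (okT_good h) (okT_inv h)

theorem mG_chk : matL Mg 4 a0L = a0L ∧ matL Mg 4 b0L = b0L := by decide +kernel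

/-- The matrix, in the group. -/
noncomputable def mG : ↥G2 := ⟨matCo0 Mg_ok, fix_of (acts_mat Mg_ok) (inLattice_sound a0L_ok) mG_chk.1⟩

theorem mG_acts : Acts ((mG : ↥G2) : Co0) (matL Mg 4) := acts_mat Mg_ok

theorem mG_mem : mG ∈ Kc := fix_of (acts_mat Mg_ok) (inLattice_sound b0L_ok) mG_chk.2

set_option maxHeartbeats 0 in
/-- The transpose of the matrix. -/
def MgT : List (List ℤ) := [[0,0,0,-1,0,1,0,0,0,1,-1,0,0,0,-1,3,0,-1,0,0,-1,0,0,0],[0,0,0,-1,0,1,0,0,0,1,-1,0,0,0,-1,-1,0,3,0,0,-1,0,0,0],[0,0,0,1,0,-1,0,0,0,3,1,0,0,0,1,1,0,1,0,0,1,0,0,0],[0,0,0,3,0,1,0,0,0,1,-1,0,0,0,-1,-1,0,-1,0,0,-1,0,0,0],[1,1,1,0,-1,0,1,1,-1,0,0,-1,-1,1,0,0,1,0,1,-1,0,1,1,-1],[0,0,0,1,0,3,0,0,0,-1,1,0,0,0,1,1,0,1,0,0,1,0,0,0],[1,-1,1,0,1,0,1,-1,-1,0,0,-1,1,1,0,0,1,0,-1,1,0,1,-1,1],[1,-1,1,0,-1,0,1,-1,1,0,0,1,-1,-1,0,0,-1,0,1,1,0,1,1,1],[1,1,-1,0,-1,0,1,1,1,0,0,-1,1,1,0,0,-1,0,1,1,0,-1,-1,1],[1,1,1,0,-1,0,-1,-1,1,0,0,1,1,1,0,0,1,0,-1,1,0,-1,1,-1],[-1,-1,-1,0,-1,0,1,1,1,0,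0,1,1,1,0,0,1,0,-1,-1,0,1,1,1],[-1,1,-1,0,1,0,1,-1,1,0,0,1,-1,1,0,0,1,0,1,1,0,1,-1,-1],[1,-1,1,0,1,0,-1,1,1,0,0,1,-1,1,0,0,1,0,1,-1,0,-1,-1,1],[-1,1,1,0,1,0,1,-1,-1,0,0,1,1,1,0,0,-1,0,1,-1,0,-1,1,1],[0,0,0,-1,0,1,0,0,0,1,3,0,0,0,-1,-1,0,-1,0,0,-1,0,0,0],[-1,1,1,0,1,0,-1,1,1,0,0,-1,-1,1,0,0,-1,0,-1,1,0,1,1,1],[1,-1,-1,0,1,0,-1,1,-1,0,0,1,1,1,0,0,-1,0,1,1,0,1,1,-1],[0,0,0,-1,0,1,0,0,0,1,-1,0,0,0,-1,-1,0,-1,0,0,3,0,0,0],[1,1,-1,0,1,0,1,1,-1,0,0,1,-1,-1,0,0,1,0,-1,1,0,-1,1,1],[1,1,-1,0,1,0,-1,-1,1,0,0,-1,1,-1,0,0,1,0,1,-1,0,1,1,1],[-1,1,1,0,-1,0,-1,1,-1,0,0,1,1,-1,0,0,1,0,1,1,0,1,-1,1],[-1,-1,1,0,1,0,1,1,1,0,0,-1,1,-1,0,0,1,0,1,1,0,-1,1,-1],[1,1,1,0,1,0,1,1,1,0,0,1,1,-1,0,0,-1,0,-1,-1,0,1,-1,-1],[0,0,0,-1,0,1,0,0,0,1,-1,0,0,0,3,-1,0,-1,0,0,-1,0,0,0]]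

theorem MgT_ok : matCheck MgT 4 = true := by decide +kernel

theorem mI_chk : matL MgT 4 a0L = a0L := by decide +kernel

/-- The inverse of the matrix, in the group. -/
noncomputable def mI : ↥G2 := ⟨matCo0 MgT_ok, fix_of (acts_mat MgT_ok) (inLattice_sound a0L_ok) mI_chk⟩

theorem mI_acts : Acts ((mI : ↥G2) : Co0) (matL MgT 4) := acts_mat MgT_ok

theorem mI_eq : mI = mG⁻¹ := by
  apply eq_inv_of_mul_eq_one_left
  refine frame_eq (f := fun l => matL MgT 4 (matL Mg 4 l)) (f' := id) (mI_acts.comp mG_acts) one_acts ?_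
  decide +kernel

/-! ### Letters -/

open Classical in
/-- A letter: the empty list is the matrix, a list of length one is its inverse, and the others are tables. -/
noncomputable def lG (T : List ℕ) : ↥G2 :=
  if T.isEmpty = true then mG else if (T.length == 1) = true then mI else pG T

/-- The action of a letter. -/
def lF (T : List ℕ) (l : List ℤ) : List ℤ :=
  bif T.isEmpty then matL Mg 4 l else bif T.length == 1 then matL MgT 4 l else permL (invP T) l

/-- The check of a letter. -/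
def okL (T : List ℕ) : Bool :=
  T.isEmpty || (T.length == 1) || (okT T && (permL (invP T) b0L == b0L))

theorem lG_cases (T : List ℕ) : (T.isEmpty = true ∧ lG T = mG ∧ lF T = matL Mg 4) ∨
    (T.isEmpty = false ∧ (T.length == 1) = true ∧ lG T = mI ∧ lF T = matL MgT 4) ∨
    (T.isEmpty = false ∧ (T.length == 1) = false ∧ lG T = pG T ∧ lF T = permL (invP T)) := by
  cases h1 : T.isEmpty
  · cases h2 : (T.length == 1)
    · refine Or.inr (Or.inr ⟨rfl, rfl, ?_, ?_⟩)
      · simp [lG, h1, h2]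
      · funext l
        simp [lF, h1, h2]
    · refine Or.inr (Or.inl ⟨rfl, rfl, ?_, ?_⟩)
      · simp [lG, h1, h2]
      · funext l
        simp [lF, h1, h2]
  · refine Or.inl ⟨rfl, ?_, ?_⟩
    · simp [lG, h1]
    · funext l
      simp [lF, h1]

theorem lG_acts {T : List ℕ} (h : okL T = true) : Acts (lG T : Co0) (lF T) := by
  rcases lG_cases T with ⟨_, e1, e2⟩ | ⟨_, _, e1, e2⟩ | ⟨h1, h2, e1, e2⟩
  · rw [e1, e2]; exact mG_acts
  · rw [e1, e2]; exact mI_acts
  · rw [e1, e2]
    simp only [okL, h1, h2, Bool.false_or, Bool.and_eq_true, beq_iff_eq] at h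
    exact pG_acts h.1

theorem lG_mem {T : List ℕ} (h : okL T = true) : lG T ∈ Kc := by
  rcases lG_cases T with ⟨_, e1, _⟩ | ⟨_, _, e1, _⟩ | ⟨h1, h2, e1, e2⟩
  · rw [e1]; exact mG_mem
  · rw [e1, mI_eq]; exact inv_mem mG_mem
  · rw [show lG T ∈ Kc ↔ (lG T) • b0El = b0El from Iff.rfl]
    have hA := lG_acts h
    rw [e2] at hA
    simp only [okL, h1, h2, Bool.false_or, Bool.and_eq_true, beq_iff_eq] at h
    exact fix_of hA (inLattice_sound b0L_ok) h.2

/-! ### Words -/

/-- The element of a word: the first letter acts first. -/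
noncomputable def kW : List (List ℕ) → ↥G2
  | [] => 1
  | x :: u => kW u * lG x

/-- The action of a word. -/
def fW : List (List ℕ) → List ℤ → List ℤ
  | [], l => l
  | x :: u, l => fW u (lF x l)

/-- The check of a word. -/
def okW (w : List (List ℕ)) : Bool := w.all okL

theorem kW_acts : ∀ {w : List (List ℕ)}, okW w = true → Acts (kW w : Co0) (fW w)
  | [], _ => one_acts
  | x :: u, h => by
    simp only [okW, List.all_cons, Bool.and_eq_true] at h
    exact (kW_acts (w := u) h.2).comp (lG_acts h.1)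

theorem kW_mem : ∀ {w : List (List ℕ)}, okW w = true → kW w ∈ Kc
  | [], _ => one_mem _
  | x :: u, h => by
    simp only [okW, List.all_cons, Bool.and_eq_true] at h
    exact mul_mem (kW_mem (w := u) h.2) (lG_mem h.1)

theorem kW_append (u v : List (List ℕ)) : kW (u ++ v) = kW v * kW u := by
  induction u with
  | nil => simp [kW]
  | cons x u ih =>
    simp only [List.cons_append, kW]
    rw [ih, mul_assoc]

/-- The inverse of a letter. -/
def invL (T : List ℕ) : List ℕ := bif T.isEmpty then [0] else bif T.length == 1 then [] else invP T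

/-- The check of the inverse of a letter. -/
def invOK (T : List ℕ) : Bool :=
  T.isEmpty || (T.length == 1) ||
    (okL T && okL (invP T) && (List.range 24).all fun i => lF (invP T) (lF T (eiL i)) == eiL i)

theorem invP_length (T : List ℕ) : (invP T).length = 24 := by simp [invP]

theorem lG_inv {T : List ℕ} (h : invOK T = true) : lG (invL T) = (lG T)⁻¹ := by
  rcases lG_cases T with ⟨h1, e1, _⟩ | ⟨h1, h2, e1, _⟩ | ⟨h1, h2, e1, e2⟩
  · rw [e1]
    have : invL T = [0] := by simp [invL, h1]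
    rw [this, ← mI_eq]
    simp [lG]
  · rw [e1]
    have : invL T = [] := by simp [invL, h1, h2]
    rw [this, mI_eq, inv_inv]
    simp [lG]
  · have e3 : invL T = invP T := by simp [invL, h1, h2]
    rw [e3]
    simp only [invOK, h1, h2, Bool.false_or, Bool.and_eq_true, List.all_eq_true, beq_iff_eq] at h
    obtain ⟨⟨h3, h4⟩, h5⟩ := h
    apply eq_inv_of_mul_eq_one_left
    refine frame_eq (f := fun l => lF (invP T) (lF T l)) (f' := id) ((lG_acts h4).comp (lG_acts h3)) one_acts ?_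
    intro i hi
    exact h5 i (List.mem_range.2 hi)

/-- The inverse of a word. -/
def invW (w : List (List ℕ)) : List (List ℕ) := (w.map invL).reverse

theorem kW_inv : ∀ {w : List (List ℕ)}, w.all invOK = true → kW (invW w) = (kW w)⁻¹
  | [], _ => by simp [invW, kW]
  | x :: u, h => by
    simp only [List.all_cons, Bool.and_eq_true] at h
    have e : invW (x :: u) = invW u ++ [invL x] := by simp [invW]
    rw [e, kW_append]
    simp only [kW, one_mul, mul_inv_rev]
    rw [kW_inv h.2, lG_inv h.1]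

theorem okW_inv_elt {g : List (List ℕ)} (h : g.all invOK = true) {p : List ℕ} :
    kW (g ++ [p] ++ invW g) = (kW g)⁻¹ * lG p * kW g := by
  rw [kW_append, kW_append, kW_inv h]
  simp only [kW, one_mul]
  group

/-! ### The base point -/

theorem LV_b0 : LV b0L := inLattice_sound b0L_ok

theorem vl_b0 : vl b0L = b0El := vl_eq LV_b0

/-! ### Words with the element `t` -/

/-- The function of a word. -/
def wF (tf : List ℤ → List ℤ) : List (List (List ℕ)) → List ℤ → List ℤ
  | [], l => l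
  | k :: ks, l => wF tf ks (tf (fW k l))

/-- The elements of a list. -/
noncomputable abbrev gw (ks : List (List (List ℕ))) : List ↥G2 := ks.map kW

section

variable {tG : ↥G2} {tf : List ℤ → List ℤ} (htA : Acts (tG : Co0) tf)

include htA

theorem wG_acts : ∀ ks : List (List (List ℕ)), ks.all okW = true → Acts ((wG tG (gw ks) : ↥G2) : Co0) (wF tf ks)
  | [], _ => one_acts
  | k :: ks, h => by
    simp only [List.all_cons, Bool.and_eq_true] at h
    have h1 := wG_acts ks h.2
    have h2 := kW_acts h.1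
    exact (h1.comp htA).comp h2

end

/-- The vectors along a path. -/
def chainChk (tf : List ℤ → List ℤ) (v : List (List ℕ)) : (List ℤ → List ℤ) → List (List (List ℕ)) → Bool
  | _, [] => true
  | f, k :: ks =>
    okW k && (fW v (f (fW k (tf b0L))) == f (fW k (tf b0L))) && chainChk tf v (fun l => f (fW k (tf l))) ks

/-- The function at the end of a path. -/
def chainF (tf : List ℤ → List ℤ) : (List ℤ → List ℤ) → List (List (List ℕ)) → List ℤ → List ℤ
  | f, [] => f
  | f, k :: ks => chainF tf (fun l => f (fW k (tf l))) ks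

/-- The element at the end of a path. -/
noncomputable def chainG (t : ↥G2) : ↥G2 → List (List (List ℕ)) → ↥G2
  | p, [] => p
  | p, k :: ks => chainG t (p * kW k * t) ks

section

variable {Γ : Type*} [Group Γ] {σ : Γ →* ↥G2} (C : Sct σ b0El) {tG : ↥G2} {tf : List ℤ → List ℤ}
  (htA : Acts (tG : Co0) tf) (ht : ∀ w ∈ Kc, w • (tG • b0El) = tG • b0El → C.Gd tG w)

include htA ht

theorem chain_good {v : List (List ℕ)} (hv : okW v = true) : ∀ (ks : List (List (List ℕ))) (p : ↥G2)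
    (f : List ℤ → List ℤ), Acts (p : Co0) f →
    C.Gd p (kW v) → chainChk tf v f ks = true →
    C.Gd (chainG tG p ks) (kW v) ∧ Acts ((chainG tG p ks : ↥G2) : Co0) (chainF tf f ks)
  | [], p, f, hf, hg, _ => ⟨hg, hf⟩
  | k :: ks, p, f, hf, hg, h => by
    simp only [chainChk, Bool.and_eq_true, beq_iff_eq] at h
    obtain ⟨⟨hk, hfix⟩, hrest⟩ := h
    have hA : Acts ((p * kW k * tG : ↥G2) : Co0) (fun l => f (fW k (tf l))) :=
      (hf.comp (kW_acts hk)).comp htA
    have hL : LV (f (fW k (tf b0L))) := hA.mem LV_b0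
    have e1 : (p * kW k * tG) • b0El = vl (f (fW k (tf b0L))) := by
      rw [← vl_b0]
      exact acts_vl hA LV_b0
    have hfx : kW v • ((p * kW k * tG) • b0El) = (p * kW k * tG) • b0El := by
      rw [e1]
      have h5 := acts_vl (kW_acts hv) hL
      rw [hfix] at h5
      exact h5
    have h3 := C.Gd_step ht hg (kW_mem hk) hfx
    exact chain_good hv ks _ _ hA h3 hrest

end

/-- Conjugation of a good element. -/
theorem Gd_conj {Γ : Type*} [Group Γ] {σ : Γ →* ↥G2} (C : Sct σ b0El) {d v g : ↥G2} (hg : g ∈ Kc) (h : C.Gd d v) :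
    C.Gd (g⁻¹ * d) (g⁻¹ * v * g) := by
  obtain ⟨hv, hv', H⟩ := h
  have e : (g⁻¹ * d)⁻¹ * (g⁻¹ * v * g) * (g⁻¹ * d) = d⁻¹ * v * d := by group
  have hg' : g⁻¹ ∈ Kc := inv_mem hg
  have hm : g⁻¹ * v * g ∈ Kc := mul_mem (mul_mem hg' hv) hg
  refine ⟨hm, by rw [e]; exact hv', fun x hx => ?_⟩
  rw [e]
  have hσ : σ (C.S g * x) = d := by
    rw [map_mul, C.hσ g hg, hx]
    group
  have h1 := H (C.S g * x) hσ
  have e2 : C.S (g⁻¹ * v * g) = (C.S g)⁻¹ * C.S v * C.S g := by
    rw [C.hmul _ (mul_mem hg' hv) _ hg, C.hmul _ hg' _ hv, C.S_inv hg]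
  rw [e2]
  calc (C.S g)⁻¹ * C.S v * C.S g * x = (C.S g)⁻¹ * (C.S v * (C.S g * x)) := by group
    _ = (C.S g)⁻¹ * (C.S g * x * C.S (d⁻¹ * v * d)) := by rw [h1]
    _ = _ := by group

/-! ### Walks -/

/-- Two starting points of a walk, with the classes of the points. -/
def chkW (tf : List ℤ → List ℤ) (roots : ℕ → List ℤ) : List (List (List ℕ)) → List (List ℕ × ℕ) → List ℤ → Bool
  | [], [], _ => true
  | k :: ks, (u, τ) :: r, y =>
    okW k && okL u && (lF u (tf b0L) == tf b0L) && (lF u (fW k y) == roots τ) &&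
      chkW tf roots ks r (tf (fW k y))
  | _, _, _ => false

section

variable {Γ : Type*} [Group Γ] {σ : Γ →* ↥G2} {C : Sct σ b0El} {tG : ↥G2} (L : Ell C tG) {tf : List ℤ → List ℤ}
  (htA : Acts (tG : Co0) tf) (hinv : tG⁻¹ = tG) {roots : ℕ → List ℤ}

include htA hinv

theorem Cy_perm {u : List ℕ} (hu : okL u = true) (hfix : lF u (tf b0L) = tf b0L) {y y' : List ℤ} (hy : LV y)
    (e : lF u y = y') : L.Cy (vl y) = L.Cy (vl y') := by
  have h1 : lG u • (tG⁻¹ • b0El) = tG⁻¹ • b0El := by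
    rw [hinv]
    have e1 : tG • b0El = vl (tf b0L) := by
      rw [← vl_b0]
      exact acts_vl htA LV_b0
    rw [e1]
    have h5 := acts_vl (lG_acts hu) (htA.mem LV_b0)
    rw [hfix] at h5
    exact h5
  have h2 := L.Cy_inv (lG_mem hu) h1 (vl y)
  have h3 : lG u • vl y = vl y' := by
    rw [← e]
    exact acts_vl (lG_acts hu) hy
  rw [← h2, h3]

theorem wC_eval : ∀ (ks : List (List (List ℕ))) (r : List (List ℕ × ℕ)) (y : List ℤ), LV y → chkW tf roots ks r y = true →
    Ell.wC tG L (gw ks) (vl y) = ((r.map fun p => L.Cy (vl (roots p.2)))).prod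
  | [], [], _, _, _ => by simp [Ell.wC]
  | [], _ :: _, _, _, h => by simp [chkW] at h
  | _ :: _, [], _, _, h => by simp [chkW] at h
  | k :: ks, (u, τ) :: r, y, hy, h => by
    simp only [chkW, Bool.and_eq_true, beq_iff_eq] at h
    obtain ⟨⟨⟨⟨hk, hu⟩, hfix⟩, he⟩, hrest⟩ := h
    have e1 : kW k • vl y = vl (fW k y) := acts_vl (kW_acts hk) hy
    have hy1 : LV (fW k y) := (kW_acts hk).mem hy
    have e2 : tG • vl (fW k y) = vl (tf (fW k y)) := acts_vl htA hy1
    have hy2 : LV (tf (fW k y)) := htA.mem hy1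
    simp only [gw, List.map_cons, Ell.wC, List.prod_cons]
    rw [e1, e2]
    congr 1
    · exact Cy_perm L htA hinv hu hfix hy1 he
    · exact wC_eval ks r _ hy2 hrest

/-- The start of a walk lies in the orbit. -/
theorem start_orbit (hroots : ∀ τ, vl (roots τ) ∈ orbit ↥G2 b0El) : ∀ (ks : List (List (List ℕ))) (r : List (List ℕ × ℕ)) (y : List ℤ), ks ≠ [] → LV y →
    chkW tf roots ks r y = true → vl y ∈ orbit ↥G2 b0El
  | [], _, _, h, _, _ => absurd rfl h
  | _ :: _, [], _, _, _, h => by simp [chkW] at h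
  | k :: ks, (u, τ) :: r, y, _, hy, h => by
    simp only [chkW, Bool.and_eq_true, beq_iff_eq] at h
    obtain ⟨⟨⟨⟨hk, hu⟩, _⟩, he⟩, _⟩ := h
    have e1 : kW k • vl y = vl (fW k y) := acts_vl (kW_acts hk) hy
    have hy1 : LV (fW k y) := (kW_acts hk).mem hy
    have h3 : lG u • vl (fW k y) = vl (roots τ) := by
      rw [← he]
      exact acts_vl (lG_acts hu) hy1
    obtain ⟨g, hg⟩ := hroots τ
    refine ⟨(kW k)⁻¹ * ((lG u)⁻¹ * g), ?_⟩
    show ((kW k)⁻¹ * ((lG u)⁻¹ * g)) • b0El = vl y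
    have hg' : g • b0El = vl (roots τ) := hg
    rw [mul_smul, mul_smul, hg', ← h3, inv_smul_smul, ← e1, inv_smul_smul]

/-- Two evaluations of the same closed walk give the same product. -/
theorem walk_rel (hroots : ∀ τ, vl (roots τ) ∈ orbit ↥G2 b0El) (ks : List (List (List ℕ))) (hne : ks ≠ [])
    (hks : ks.all okW = true)
    (hW : ∀ i < 24, wF tf ks (eiL i) = eiL i) (r r' : List (List ℕ × ℕ)) (y y' : List ℤ) (hy : LV y) (hy' : LV y')
    (h : chkW tf roots ks r y = true) (h' : chkW tf roots ks r' y' = true) :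
    ((r.map fun p => L.Cy (vl (roots p.2)))).prod = ((r'.map fun p => L.Cy (vl (roots p.2)))).prod := by
  have hw1 : wG tG (gw ks) = 1 := frame_eq (f := wF tf ks) (f' := id) (wG_acts htA ks hks) one_acts hW
  have hmem : ∀ k ∈ gw ks, k ∈ stabilizer ↥G2 b0El := by
    intro k hk
    obtain ⟨T, hT, rfl⟩ := List.mem_map.1 hk
    have hT' := List.all_eq_true.1 hks T hT
    exact kW_mem hT'
  obtain ⟨g, hg⟩ := start_orbit htA hinv hroots ks r y hne hy h
  obtain ⟨g', hg'⟩ := start_orbit htA hinv hroots ks r' y' hne hy' h'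
  have h1 := L.walk_const (gw ks) hmem hw1 g g'
  have hg1 : g • b0El = vl y := hg
  have hg2 : g' • b0El = vl y' := hg'
  rw [hg1, hg2, wC_eval L htA hinv ks r y hy h, wC_eval L htA hinv ks r' y' hy' h'] at h1
  exact h1

end

/-! ### Generators on codes, given by words -/

/-- The bounds for a code. -/
def bdOK (l : List ℤ) : Bool :=
  (l.length == 24) && (List.range 24).all fun i => decide (-16 ≤ l.getD i 0) && decide (l.getD i 0 < 16)

/-- The code of a vector, when it is in range. -/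
def gWa (l : List ℤ) (c : ℕ) : ℕ := bif bdOK l then encL l else encL (decL c)

/-- A word acting on codes. -/
def gW (w : List (List ℕ)) (c : ℕ) : ℕ := gWa (fW w (decL c)) c

theorem decL_length (c : ℕ) : (decL c).length = 24 := by
  simp [decL, rangeL]

theorem decL_bd (c i : ℕ) (hi : i < 24) : -16 ≤ (decL c).getD i 0 ∧ (decL c).getD i 0 < 16 := by
  have h1 : (decL c).getD i 0 = (dg c (5 * i) : ℤ) - 16 := by
    rw [List.getD_eq_getElem _ _ (by rw [decL_length]; exact hi)]
    simp [decL, rangeL]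
  rw [h1]
  have := dg_lt c (5 * i)
  omega

theorem genP_word {K : Subgroup Co0} {g : Co0} {f : List ℤ → List ℤ} (hA : Acts g f) (hg : g ∈ K) :
    GenP K (fun c => gWa (f (decL c)) c) := by
  intro c hc
  have hc' : vecOf (decL c) ∈ leechLattice := by rwa [vecOf_decL]
  have hS := acts_sameIn hA hg (decL c) hc'
  rw [vecOf_decL] at hS
  show SameIn K (vecN c) (vecN (gWa (f (decL c)) c)) ∧ gWa (f (decL c)) c < 32 ^ 24
  by_cases hb : bdOK (f (decL c)) = true
  · have e1 : gWa (f (decL c)) c = encL (f (decL c)) := by simp [gWa, hb]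
    rw [e1]
    simp only [bdOK, Bool.and_eq_true, beq_iff_eq, List.all_eq_true, List.mem_range, decide_eq_true_eq] at hb
    obtain ⟨hlen, hr⟩ := hb
    have e := vecN_encL hlen (fun i hi => hr i hi)
    refine ⟨?_, ?_⟩
    · rw [e]
      exact hS
    · have := encL_lt (f (decL c))
      rwa [hlen] at this
  · have e1 : gWa (f (decL c)) c = encL (decL c) := by simp [gWa, hb]
    rw [e1]
    have e := vecN_encL (decL_length c) (decL_bd c)
    refine ⟨?_, ?_⟩
    · rw [e, vecOf_decL]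
      exact SameIn.refl hc
    · have := encL_lt (decL c)
      rwa [decL_length] at this

theorem lF_table {T : List ℕ} (h : T.length = 24) : lF T = permL (invP T) := by
  funext l
  have h1 : T.isEmpty = false := by
    cases T with
    | nil => simp at h
    | cons a b => rfl
  have h2 : (T.length == 1) = false := by
    rw [h]
    rfl
  simp [lF, h1, h2]

/-- A table on codes. -/
theorem genP_table {K : Subgroup Co0} {T : List ℕ} (hT : okL T = true) (hlen : T.length = 24) (hK : ((lG T : ↥G2) : Co0) ∈ K) :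
    GenP K (fun c => permAux c ((invP T).map fun t => 5 * t)) := by
  have hA := lG_acts hT
  rw [lF_table hlen] at hA
  have h1 : T.isEmpty = false := by
    cases T with
    | nil => simp at hlen
    | cons a b => rfl
  have h2 : (T.length == 1) = false := by
    rw [hlen]
    rfl
  simp only [okL, h1, h2, Bool.false_or, Bool.and_eq_true, beq_iff_eq] at hT
  exact genP_perm hA hK (invP_length T) (okT_lt hT.1)

/-- Counting with two levels. -/
theorem card_two {A H : Subgroup Co0} [Finite A] {gens : List (ℕ → ℕ)} (hgens : ∀ f ∈ gens, GenP A f) (hH : H ≤ A)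
    {gensH : List (ℕ → ℕ)} (hgensH : ∀ f ∈ gensH, GenP H f) (root : ℕ) (hr : vecN root ∈ leechLattice) (hb : root < 32 ^ 24)
    (hfix : ∀ h ∈ H, h • (⟨vecN root, hr⟩ : leechLattice) = ⟨vecN root, hr⟩)
    (fuel : ℕ) (cs : List ℕ) (c : ℕ) (hrun : runK gens fuel cs c [root] (treeOf [root]) = true)
    (root2 : ℕ) (hr2 : vecN root2 ∈ leechLattice) (hb2 : root2 < 32 ^ 24)
    (fuel2 : ℕ) (cs2 : List ℕ) (c2 : ℕ) (hrun2 : runK gensH fuel2 cs2 c2 [root2] (treeOf [root2]) = true) :
    (fuel + 1) * (fuel2 + 1) ≤ Nat.card A := by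
  classical
  have _ : Finite H := Finite.of_injective (fun h : H => (⟨h.1, hH h.2⟩ : A)) (fun a b e => by
    apply Subtype.ext
    exact congrArg (fun z : A => (z : Co0)) e)
  have h2 := card_of_run hgensH root2 hr2 hb2 fuel2 cs2 c2 hrun2
  obtain ⟨F, h1, hnd, h3⟩ := run_list hgens [root] (by simp) (by simpa using ⟨hr, hb⟩) fuel cs c hrun
  set x : leechLattice := ⟨vecN root, hr⟩ with hx
  have hcard := card_inf_mul A x
  have hle : Nat.card H ≤ Nat.card ↥(A ⊓ stabilizer Co0 x) := by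
    apply Subgroup.card_le_of_le
    intro h hh
    exact ⟨hH hh, hfix h hh⟩
  have hfinO : (orbit A x).Finite := Set.finite_range _
  have hO : fuel + 1 ≤ (orbit A x).ncard := by
    have hsub : {y : leechLattice | y.1 ∈ (F.map vecN)} ⊆ orbit A x := by
      rintro y hy
      obtain ⟨l, hl, e⟩ := List.mem_map.1 hy
      obtain ⟨-, -, r, hr', hS⟩ := h3 l hl
      rw [List.mem_singleton] at hr'
      subst hr'
      obtain ⟨hx', hy', g, hg, e'⟩ := hS
      refine ⟨⟨g, hg⟩, ?_⟩
      apply Subtype.ext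
      show (g • (⟨vecN r, hr⟩ : leechLattice) : leechLattice).1 = y.1
      have := congrArg Subtype.val e'
      rw [← e]
      exact this
    have hnd2 : (F.map vecN).Nodup := by
      refine List.Nodup.map_on ?_ hnd
      intro a ha b hb' e
      exact vecN_inj (h3 a ha).2.1 (h3 b hb').2.1 e
    have hsurj : ∀ v ∈ (F.map vecN), v ∈ leechLattice := by
      intro v hv
      obtain ⟨l, hl, rfl⟩ := List.mem_map.1 hv
      exact (h3 l hl).1
    let S : Finset leechLattice := (F.map vecN).attach.toFinset.image fun v => ⟨v.1, hsurj v.1 v.2⟩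
    have hS : S.card = fuel + 1 := by
      rw [Finset.card_image_of_injective]
      · rw [List.toFinset_card_of_nodup (List.nodup_attach.2 hnd2), List.length_attach, List.length_map, h1]
        simp
      · intro a b e
        have e' := congrArg (fun z : leechLattice => (z : GolayPt → ℤ)) e
        exact Subtype.ext e'
    have hS2 : (S : Set leechLattice) ⊆ orbit A x := by
      intro y hy
      apply hsub
      obtain ⟨v, hv, rfl⟩ := Finset.mem_image.1 (Finset.mem_coe.1 hy)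
      exact v.2
    have := Set.ncard_le_ncard hS2 hfinO
    rwa [Set.ncard_coe_finset, hS] at this
  rw [← hcard]
  calc (fuel + 1) * (fuel2 + 1) ≤ (orbit A x).ncard * Nat.card ↥(A ⊓ stabilizer Co0 x) :=
        Nat.mul_le_mul hO (h2.trans hle)
    _ = _ := mul_comm _ _

end Cfsg.Agent.Lib.Sporadic.Co2Mult
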